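import Groth.Agent.RedSub.H668.Adapt
import Groth.Agent.RedSub.H641.StrictTr
import Groth.Agent.RedSub.H642.NormOfTransp
import Groth.Agent.RedSub.H645.ConjEqIff
import Groth.Agent.Agf.H583.EtConj
import Groth.Agent.Agf.H609.GrothFinal
import Groth.Agent.Sga3.H830.TorBc
import Groth.Agent.NonAbH1.K191.RedTors

/-!
# Geometric points of a torsor adapted to a maximal torus

`G` smooth and affine over the field `K` (not necessarily connected), `i : T ⟶ G` a maximal torus, `n : N ⟶ G`
its normalizer, `P` a torsor under `G`, `L` algebraically closed over `K`.  There is a point `x ∈ P(L)` such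
that `σ x ∈ N(L) x` for all the automorphisms `σ` of `L` over `K` (`exists_pt`).

`exists_main`: the form over `k → K`, `k` algebraically closed of characteristic zero.
-/

set_option autoImplicit false
universe u

open CategoryTheory CategoryTheory.Limits MonoidalCategory CartesianMonoidalCategory MonObj GrpObj AlgebraicGeometry
open Groth.Agent.Books.BorelOrb

namespace K944.TorRed

open Groth.Agent Groth.Agent.RedSub.H668 Groth.Agent.Agf.H583 K191.GalPt

section Norm

variable {S : Scheme.{u}} {G T : Over S} [GrpObj G] [GrpObj T]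

/-- The normalizer of a torus is represented by a closed subgroup. -/
theorem exists_norm [LocallyOfFiniteType G.hom] (i : T ⟶ G) [IsMonHom i] [Mono i] (hT : Red.IsTorus T) :
    ∃ (N : Over S) (_ : GrpObj N) (n : N ⟶ G), IsMonHom n ∧ IsClosedImmersion n.left ∧
      LocallyOfFinitePresentation n.left ∧ _root_.RedSub.IsStrictTransporter i i n := by
  have h1 : Smooth T.hom := Sga3B.TorusAlgClosed.smooth_of_isTorus hT
  have h2 : GeometricallyIrreducible T.hom := Sga3B.TorusIrr.geometricallyIrreducible_of_isTorus hT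
  obtain ⟨N, n, hn, hn1, hn2⟩ := RedSub.H641.StrictTr.exists_strictTransporter i i
  obtain ⟨iN, hN⟩ := RedSub.H642.NormOfTransp.exists_isNormalizerOf i n hn
  exact ⟨N, iN, n, hN.1, hn1, hn2, hn⟩

omit [GrpObj T] in
/-- `ConjSub` and `ConjEq`. -/
theorem conjEq_of_conjSub {T' : Over S} {i : T ⟶ G} {i' : T' ⟶ G} {X : Over S} {g : X ⟶ G}
    (h : ConjSub.ConjSub i i' g) : _root_.RedSub.ConjEq i i' g := by
  intro Y y
  refine ⟨(h Y y).1, fun q' => ?_⟩
  obtain ⟨q, hq⟩ := (h Y y).2 q'
  refine ⟨q, ?_⟩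
  rw [← hq]
  group

end Norm

section Main

variable {K : Type u} [Field K] {G T N P : Over (Spec (CommRingCat.of K))} [GrpObj G] [GrpObj T]

theorem redSub_isTorsor [Smooth G.hom] (a : AlgGrp.Action G P) (ha : NonAbH1.IsPseudoTorsorSch a) [Nonempty P.left] :
    _root_.RedSub.IsTorsor a := by
  have h1 : Smooth P.hom := K826.TorsField.prop_of_pseudo a ha @Smooth ‹_›
  exact ⟨K826.TorsField.surjective_of_nonempty _, K826.TorsField.flat_of_field _, inferInstance, ha⟩

variable (L : Type u) [Field L] [Algebra K L] [IsAlgClosed L]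

/-- Adapted points over an algebraically closed field. -/
theorem exists_adp_pt [IsAffine G.left] [Smooth G.hom] {a : AlgGrp.Action G P} (ha : _root_.RedSub.IsTorsor a)
    [Nonempty P.left] {i : T ⟶ G} (hi : Red.IsMaximalTorus i) {G₁ T' : Over (Spec (CommRingCat.of K))} [GrpObj G₁]
    [GrpObj T'] [LocallyOfFiniteType G₁.hom] {κ : P ⊗ G₁ ⟶ G} (hI : IsInner a G₁ κ) {t' : T' ⟶ G₁}
    (ht : Red.IsMaximalTorus t') : ∃ x : Om K L ⟶ P, Adp κ i t' x := by
  have hP : Smooth P.hom := smooth_of_torsor ha inferInstance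
  obtain ⟨x₀⟩ := K191.RedTors.exists_pt L P
  let v : Spec (CommRingCat.of L) ⟶ Spec (CommRingCat.of K) := Spec.map (CommRingCat.ofHom (algebraMap K L))
  obtain ⟨x₁, hx₁⟩ : ∃ x₁ : Over.mk v ⟶ P, x₁ = x₀ := ⟨x₀, rfl⟩
  obtain ⟨e, he⟩ := hI.exists_iso v x₁
  have h1 := Sga3.H830.TorBc.isMaximalTorus_bc v hi
  have h2 := Sga3.H830.TorBc.isMaximalTorus_bc v ht
  have h3 : Red.IsMaximalTorus ((Over.pullback v).map t' ≫ innHom κ x₁) :=
    Sga3B.AlgBc.isMaximalTorus_of_arrow (Iso.refl _) e (by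
      have he' : (Sga3B.RedIso.und e).hom = innHom κ x₁ := he
      rw [he']
      exact (Category.id_comp _).symm) h2
  have hA : IsAffineHom (Red.bc v G).hom := MorphismProperty.pullback_snd (P := @IsAffineHom) _ _ inferInstance
  have hS : Smooth (Red.bc v G).hom := inferInstanceAs (Smooth (pullback.snd G.hom v))
  obtain ⟨W, hW, ⟨w, -⟩, g, hg⟩ := EtConj.exists_etale_conj (Red.bc v G) _ _ h1 h3 (IsLocalRing.closedPoint L)
  have hne : Nonempty W.left := ⟨w⟩
  obtain ⟨y⟩ := K191.RedTors.exists_pt L W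
  have h4 := adp_of_conjEq hI v x₁ (y ≫ g) (conjEq_of_conjSub (hg.comp y))
  let ε : Om K L ⟶ (Over.map v).obj (Om L L) := Over.homMk (𝟙 _) (by
    change 𝟙 _ ≫ Spec.map (CommRingCat.ofHom (algebraMap L L)) ≫ v = v
    rw [Category.id_comp]
    have h5 : CommRingCat.ofHom (algebraMap L L) = 𝟙 _ := rfl
    rw [h5, Spec.map_id, Category.id_comp])
  exact ⟨_, h4.comp ε⟩

/-- **Points of a torsor adapted to a maximal torus.** -/
theorem exists_pt [IsAffine G.left] [Smooth G.hom] (a : AlgGrp.Action G P) (ha : NonAbH1.IsPseudoTorsorSch a)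
    [Nonempty P.left] {i : T ⟶ G} (hi : Red.IsMaximalTorus i) {n : N ⟶ G}
    (hn : _root_.RedSub.IsStrictTransporter i i n) :
    ∃ x : Om K L ⟶ P, ∀ σ : L ≃ₐ[K] L, ∃ h : Om K L ⟶ N, gs σ ≫ x = sm a (h ≫ n) x := by
  have ha' := redSub_isTorsor a ha
  have hG : IsAffineHom G.hom := inferInstance
  obtain ⟨G₁, _, κ, hI⟩ := exists_inner ha' hG inferInstance
  have hG₁ : IsAffineHom G₁.hom := prop_of_inner ha' inferInstance hI @IsAffineHom hG
  have hG₁s : Smooth G₁.hom := prop_of_inner ha' inferInstance hI @Smooth inferInstance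
  have hG₁a : IsAffine G₁.left := isAffine_of_isAffineHom G₁.hom
  obtain ⟨T', _, t', ht'⟩ := Groth.Agent.Agf.H609.GrothFinal.exists_isMaximalTorus G₁
  obtain ⟨x, hx⟩ := exists_adp_pt L ha' hi hI ht'
  refine ⟨x, fun σ => ?_⟩
  obtain ⟨h, hh⟩ := (hn.2 _ _).2 (Adp.conjEq ha' hI (hx.comp (gs σ)) hx)
  refine ⟨h, ?_⟩
  rw [hh, sm_dif]

end Main

section Bc

/-- Strict transporters commute with base change. -/
theorem isStrictTransporter_bc {S S' : Scheme.{u}} {G T N : Over S} [GrpObj G] [GrpObj T] (f : S' ⟶ S) {i : T ⟶ G}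
    {n : N ⟶ G} (hn : _root_.RedSub.IsStrictTransporter i i n) :
    _root_.RedSub.IsStrictTransporter ((Over.pullback f).map i) ((Over.pullback f).map i)
      ((Over.pullback f).map n) := by
  obtain ⟨hm, hc⟩ := hn
  refine ⟨inferInstance, fun X g => ?_⟩
  rw [RedSub.H645.ConjEqIff.conjEq_bc_iff, ← hc]
  constructor
  · rintro ⟨z, hz⟩
    refine ⟨(Sga3B.BcPts.bcEquiv f X N).symm z, ?_⟩
    rw [← Sga3B.BcPts.bcEquiv_symm_comp, hz]
    rfl
  · rintro ⟨z, hz⟩
    refine ⟨Sga3B.BcPts.bcEquiv f X N z, ?_⟩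
    rw [← Sga3B.BcPts.bcEquiv_comp, hz]
    exact (Sga3B.BcPts.bcEquiv f X G).apply_symm_apply g

/-- **Points of a torsor adapted to a maximal torus defined over a subfield.** -/
theorem exists_main {k : Type u} [Field k] {G T N : Over (Spec (CommRingCat.of k))} [GrpObj G] [GrpObj T]
    [IsAffine G.left] [Smooth G.hom] {i : T ⟶ G} (hi : Red.IsMaximalTorus i) {n : N ⟶ G}
    (hn : _root_.RedSub.IsStrictTransporter i i n) (K : Type u) [Field K] [Algebra k K]
    {P : Over (Spec (CommRingCat.of K))}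
    (a : AlgGrp.Action (Red.bc (Spec.map (CommRingCat.ofHom (algebraMap k K))) G) P)
    (ha : NonAbH1.IsPseudoTorsorSch a) [Nonempty P.left] (L : Type u) [Field L] [Algebra K L] [IsAlgClosed L] :
    ∃ x : Om K L ⟶ P, ∀ σ : L ≃ₐ[K] L,
      ∃ h : Om K L ⟶ Red.bc (Spec.map (CommRingCat.ofHom (algebraMap k K))) N,
        gs σ ≫ x = sm a (h ≫ (Over.pullback (Spec.map (CommRingCat.ofHom (algebraMap k K)))).map n) x := by
  have h1 : IsAffineHom (Red.bc (Spec.map (CommRingCat.ofHom (algebraMap k K))) G).hom :=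
    MorphismProperty.pullback_snd (P := @IsAffineHom) _ _ inferInstance
  have h2 : IsAffine (Red.bc (Spec.map (CommRingCat.ofHom (algebraMap k K))) G).left :=
    isAffine_of_isAffineHom (Red.bc (Spec.map (CommRingCat.ofHom (algebraMap k K))) G).hom
  have h3 : Smooth (Red.bc (Spec.map (CommRingCat.ofHom (algebraMap k K))) G).hom :=
    inferInstanceAs (Smooth (pullback.snd G.hom (Spec.map (CommRingCat.ofHom (algebraMap k K)))))
  exact exists_pt L a ha (Sga3.H830.TorBc.isMaximalTorus_bc _ hi) (isStrictTransporter_bc _ hn)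

end Bc

end K944.TorRed
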