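import Groth.Agent.NonAbH1.K944.GlobAlg
import Groth.Agent.PrincBund.K826.ActFun

/-!
# Actions of affine groups over a field on affine schemes over an affine base: the coaction

`a` an action of `Spec A` on `Spec B` over `k`, `Spec B → Spec R` invariant.

* `rhoL a hinv : B → B ⊗ A` the `R`-linear coaction, `isCoact`.
* `bijective_gam`: if `a` is simply transitive on the fibres of `Spec B → Spec R` over an open `V`, and `B → C` is a map
  of `R`-algebras with `Spec C → Spec R` landing in `V`, then `gam` is bijective.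
-/

set_option autoImplicit false
universe u

open CategoryTheory MonoidalCategory CartesianMonoidalCategory MonObj GrpObj AlgebraicGeometry
open TensorProduct

namespace K944.Chart

open Groth.Agent.Books.AffBridge Groth.Agent.RedSub.H658.TorsDiv Groth.Agent.Sga3.H219.Coact K826.ActFun
open K944.LocAlg

variable {k : Type u} [Field k] {A R B : Type u} [CommRing A] [HopfAlgebra k A] [CommRing R] [Algebra k R]
  [CommRing B] [Algebra k B] [Algebra R B] [IsScalarTower k R B]

variable (k R B) in
/-- the structure morphism -/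
noncomputable def pr : SpecOver k B ⟶ SpecOver k R := specMap k (IsScalarTower.toAlgHom k R B)

/-- invariance of the structure morphism -/
def Inv (R : Type u) [CommRing R] [Algebra k R] [Algebra R B] [IsScalarTower k R B]
    (a : AlgGrp.Action (SpecOver k A) (SpecOver k B)) : Prop :=
  ∀ {T : Over (Spec (CommRingCat.of k))} (g : T ⟶ SpecOver k A) (x : T ⟶ SpecOver k B),
    ac a g x ≫ pr k R B = x ≫ pr k R B

variable {a : AlgGrp.Action (SpecOver k A) (SpecOver k B)}

lemma specMap_rho (a : AlgGrp.Action (SpecOver k A) (SpecOver k B)) :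
    specMap k (rho k (rt a)) = ac a (specMap k (Algebra.TensorProduct.includeRight))⁻¹
      (specMap k Algebra.TensorProduct.includeLeft) := by
  rw [rho, specMap_specPreimage, lift_rt]

lemma rho_algebraMap (hinv : Inv R a) (r : R) :
    rho k (rt a) (algebraMap R B r) = algebraMap R B r ⊗ₜ[k] (1 : A) := by
  have h1 : specMap k ((rho k (rt a)).comp (IsScalarTower.toAlgHom k R B)) =
      specMap k ((Algebra.TensorProduct.includeLeft : B →ₐ[k] B ⊗[k] A).comp (IsScalarTower.toAlgHom k R B)) := by
    rw [specMap_comp, specMap_comp, specMap_rho]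
    exact hinv _ _
  exact congrArg (fun f => f r) (specMap_injective k h1)

/-- the coaction, linear over the base -/
noncomputable def rhoL (a : AlgGrp.Action (SpecOver k A) (SpecOver k B)) (hinv : Inv R a) : B →ₗ[R] B ⊗[k] A where
  toFun := rho k (rt a)
  map_add' := map_add _
  map_smul' r b := by
    rw [Algebra.smul_def, map_mul, rho_algebraMap hinv, Algebra.smul_def]
    rfl

lemma rhoL_apply (hinv : Inv R a) (b : B) : rhoL a hinv b = rho k (rt a) b := rfl

theorem isCoact (hinv : Inv R a) : IsCoact (rhoL a hinv) where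
  one := map_one (rho k (rt a))
  coassoc b := coassoc (rt a) (by
    intro Y v x y
    rw [lift_rt, lift_rt, lift_rt, ← mul_ac, _root_.mul_inv_rev]) b
  counit b := counit (rt a) (by
    intro Y v
    rw [lift_rt, inv_one, one_ac]) b

section gam

variable {C : Type u} [CommRing C] [Algebra k C] [Algebra R C] [IsScalarTower k R C] (v : B →ₐ[R] C)

/-- `gam` as a ring homomorphism -/
noncomputable def gamA (a : AlgGrp.Action (SpecOver k A) (SpecOver k B)) (hinv : Inv R a) :
    C ⊗[R] B →ₐ[k] C ⊗[k] A :=
  (Algebra.TensorProduct.lift (R := R) (S := R) (A := C) (B := B) (C := C ⊗[k] A)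
    (IsScalarTower.toAlgHom R C (C ⊗[k] A))
    { ((Algebra.TensorProduct.map (v.restrictScalars k) (AlgHom.id k A)).comp (rho k (rt a))).toRingHom with
      commutes' := fun r => by
        change Algebra.TensorProduct.map (v.restrictScalars k) (AlgHom.id k A) (rho k (rt a) (algebraMap R B r)) = _
        rw [rho_algebraMap hinv]
        change v (algebraMap R B r) ⊗ₜ[k] (1 : A) = _
        rw [v.commutes]
        rfl }
    (fun _ _ => Commute.all _ _)).restrictScalars k

lemma gamA_tmul (hinv : Inv R a) (c : C) (b : B) : gamA v a hinv (c ⊗ₜ b) =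
    (c ⊗ₜ[k] (1 : A)) * Algebra.TensorProduct.map (v.restrictScalars k) (AlgHom.id k A) (rho k (rt a) b) := rfl

lemma gamA_eq (hinv : Inv R a) (z : C ⊗[R] B) : gamA v a hinv z = gam v (rhoL a hinv) z := by
  induction z with
  | zero => rw [map_zero, map_zero]
  | add x y hx hy => rw [map_add, map_add, hx, hy]
  | tmul c b =>
    rw [gamA_tmul, gam_tmul, Algebra.smul_def]
    rfl

/-- simple transitivity for points landing in `V` -/
def PT (R : Type u) [CommRing R] [Algebra k R] [Algebra R B] [IsScalarTower k R B]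
    (a : AlgGrp.Action (SpecOver k A) (SpecOver k B)) (V : (SpecOver k R).left.Opens) : Prop :=
  ∀ {T : Over (Spec (CommRingCat.of k))} (x x' : T ⟶ SpecOver k B), x ≫ pr k R B = x' ≫ pr k R B →
    Set.range (x ≫ pr k R B).left ⊆ (V : Set _) → ∃! g : T ⟶ SpecOver k A, ac a g x' = x

theorem bijective_gam (hinv : Inv R a) {V : (SpecOver k R).left.Opens} (hpt : PT R a V)
    (hC : Set.range (pr k R C).left ⊆ (V : Set _)) :
    Function.Bijective (gam v (rhoL a hinv)) := by
  -- points over an algebra over `C`
  have hV : ∀ {E : Type u} [CommRing E] [Algebra k E] (φ : C →ₐ[k] E),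
      Set.range (specMap k ((φ.comp (v.restrictScalars k))) ≫ pr k R B).left ⊆ (V : Set _) := by
    intro E _ _ φ
    have h1 : specMap k ((φ.comp (v.restrictScalars k))) ≫ pr k R B = specMap k φ ≫ pr k R C := by
      rw [pr, pr, ← specMap_comp, ← specMap_comp]
      congr 1
      ext r
      exact congrArg φ (v.commutes r)
    rw [h1]
    rintro _ ⟨y, rfl⟩
    exact hC ⟨(specMap k φ).left y, rfl⟩
  -- existence over `C ⊗ B`
  let x₁ : B →ₐ[k] C ⊗[R] B := (Algebra.TensorProduct.includeLeft (R := R) (S := k) : C →ₐ[k] C ⊗[R] B).comp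
    (v.restrictScalars k)
  let x₂ : B →ₐ[k] C ⊗[R] B := (Algebra.TensorProduct.includeRight : B →ₐ[R] C ⊗[R] B).restrictScalars k
  have h12 : specMap k x₂ ≫ pr k R B = specMap k x₁ ≫ pr k R B := by
    rw [pr, ← specMap_comp, ← specMap_comp]
    congr 1
    ext r
    change (1 : C) ⊗ₜ[R] algebraMap R B r = v (algebraMap R B r) ⊗ₜ[R] (1 : B)
    rw [v.commutes, Algebra.algebraMap_eq_smul_one, Algebra.algebraMap_eq_smul_one, TensorProduct.tmul_smul,
      TensorProduct.smul_tmul']
  obtain ⟨g, hg, -⟩ := hpt (specMap k x₂) (specMap k x₁) h12 (by rw [h12]; exact hV _)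
  obtain ⟨ψ, hψ⟩ : ∃ ψ : A →ₐ[k] C ⊗[R] B, specMap k ψ = g⁻¹ := ⟨_, specMap_specPreimage k _⟩
  have h3 : (Algebra.TensorProduct.lift x₁ ψ (fun _ _ => Commute.all _ _)).comp (rho k (rt a)) = x₂ := by
    apply specMap_injective k
    rw [← lift_comp, lift_rt, hψ, _root_.inv_inv, hg]
  -- the inverse
  let δ : C ⊗[k] A →ₐ[k] C ⊗[R] B := Algebra.TensorProduct.lift
    (Algebra.TensorProduct.includeLeft (R := R) (S := k) : C →ₐ[k] C ⊗[R] B) ψ (fun _ _ => Commute.all _ _)
  have h4 : ∀ z, δ (gamA v a hinv z) = z := by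
    intro z
    induction z with
    | zero => rw [map_zero, map_zero]
    | add x y hx hy => rw [map_add, map_add, hx, hy]
    | tmul c b =>
      have h5 : δ (Algebra.TensorProduct.map (v.restrictScalars k) (AlgHom.id k A) (rho k (rt a) b)) = x₂ b := by
        rw [← h3]
        change (δ.comp (Algebra.TensorProduct.map (v.restrictScalars k) (AlgHom.id k A))) (rho k (rt a) b) =
          (Algebra.TensorProduct.lift x₁ ψ (fun _ _ => Commute.all _ _)) (rho k (rt a) b)
        congr 1
        apply Algebra.TensorProduct.ext'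
        intro s t
        rfl
      rw [gamA_tmul, map_mul, h5]
      change (c ⊗ₜ[R] (1 : B) * ψ 1) * ((1 : C) ⊗ₜ[R] b) = _
      rw [map_one, _root_.mul_one, Algebra.TensorProduct.tmul_mul_tmul, _root_.mul_one, _root_.one_mul]
  -- uniqueness over `C ⊗ A`
  have h6 : (gamA v a hinv).comp ψ = (Algebra.TensorProduct.includeRight : A →ₐ[k] C ⊗[k] A) := by
    let y₁ : B →ₐ[k] C ⊗[k] A := (Algebra.TensorProduct.includeLeft : C →ₐ[k] C ⊗[k] A).comp (v.restrictScalars k)
    let y₂ : B →ₐ[k] C ⊗[k] A := (Algebra.TensorProduct.map (v.restrictScalars k) (AlgHom.id k A)).comp (rho k (rt a))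
    have e1 : (gamA v a hinv).comp x₁ = y₁ := by
      ext b
      change gamA v a hinv (v b ⊗ₜ[R] (1 : B)) = v b ⊗ₜ[k] (1 : A)
      rw [gamA_tmul, map_one, map_one, _root_.mul_one]
    have e2 : (gamA v a hinv).comp x₂ = y₂ := by
      ext b
      change gamA v a hinv ((1 : C) ⊗ₜ[R] b) = _
      rw [gamA_tmul]
      exact _root_.one_mul _
    have e3 : ∀ (χ : A →ₐ[k] C ⊗[k] A), (Algebra.TensorProduct.lift y₁ χ (fun _ _ => Commute.all _ _)).comp
        (rho k (rt a)) = y₂ → ac a (specMap k χ)⁻¹ (specMap k y₁) = specMap k y₂ := by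
      intro χ hχ
      rw [← lift_rt, lift_comp, hχ]
    have e40 : Algebra.TensorProduct.lift y₁ ((gamA v a hinv).comp ψ) (fun _ _ => Commute.all _ _) =
        (gamA v a hinv).comp (Algebra.TensorProduct.lift x₁ ψ (fun _ _ => Commute.all _ _)) := by
      apply Algebra.TensorProduct.ext'
      intro s t
      rw [← e1]
      simp only [Algebra.TensorProduct.lift_tmul, AlgHom.comp_apply, map_mul]
    have e4 := e3 ((gamA v a hinv).comp ψ) (by
      rw [e40, AlgHom.comp_assoc, h3, e2])
    have e50 : Algebra.TensorProduct.lift y₁ (Algebra.TensorProduct.includeRight : A →ₐ[k] C ⊗[k] A)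
        (fun _ _ => Commute.all _ _) = Algebra.TensorProduct.map (v.restrictScalars k) (AlgHom.id k A) := by
      apply Algebra.TensorProduct.ext'
      intro s t
      simp only [y₁, Algebra.TensorProduct.lift_tmul, AlgHom.comp_apply, Algebra.TensorProduct.includeLeft_apply,
        Algebra.TensorProduct.includeRight_apply, Algebra.TensorProduct.tmul_mul_tmul, _root_.mul_one, _root_.one_mul,
        Algebra.TensorProduct.map_tmul, AlgHom.id_apply]
    have e5 := e3 Algebra.TensorProduct.includeRight (by rw [e50])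
    have e6 : specMap k y₂ ≫ pr k R B = specMap k y₁ ≫ pr k R B := by
      rw [← e5]
      exact hinv _ _
    have e7 := (hpt (specMap k y₂) (specMap k y₁) e6 (by rw [e6]; exact hV _)).unique e4 e5
    exact specMap_injective k (inv_injective e7)
  constructor
  · intro x y hxy
    rw [← gamA_eq, ← gamA_eq] at hxy
    rw [← h4 x, ← h4 y, hxy]
  · intro t
    induction t with
    | zero => exact ⟨0, map_zero _⟩
    | add x y hx hy =>
      obtain ⟨x', rfl⟩ := hx
      obtain ⟨y', rfl⟩ := hy
      exact ⟨x' + y', map_add _ _ _⟩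
    | tmul c s =>
      refine ⟨c • ψ s, ?_⟩
      rw [map_smul, ← gamA_eq]
      have := congrArg (fun f => f s) h6
      change gamA v a hinv (ψ s) = (1 : C) ⊗ₜ[k] s at this
      rw [this, TensorProduct.smul_tmul', smul_eq_mul, _root_.mul_one]

end gam

end K944.Chart
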