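import Groth.Agent.QGor.K966.DepthLocal
import Groth.Agent.Divis.DepthTwo
import Groth.Agent.CalgA.DepthSmall
import Mathlib.RingTheory.Regular.Flat
import Mathlib.RingTheory.Regular.RegularSequence

/-!
# Regular triples

* `Triple x y z M`: a weakly regular sequence of length three, in elementary terms.
* `surjective_of_triple`: if `0 → K → F → P` is exact, `K` has regular triples, `F` regular pairs and `x` is regular on
  `P`, then an element `q` of `P` with `x q, y q, z q` in the image is in the image.
* `exists_triple`: existence from the depth of the local rings.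
-/

set_option autoImplicit false
universe u v w

namespace K944.RegTriple

open Groth.Agent.Divis.DepthTwo RingTheory.Sequence

/-- `x, y, z` is a (weakly) regular sequence of length three on `M`. -/
structure Triple {R : Type*} [CommRing R] (x y z : R) (M : Type*) [AddCommGroup M] [Module R M] : Prop where
  inj : ∀ m : M, x • m = 0 → m = 0
  div : ∀ m n : M, y • m = x • n → ∃ l : M, m = x • l
  div3 : ∀ m n l : M, z • m = x • n + y • l → ∃ n' l' : M, m = x • n' + y • l'

section

variable {R : Type*} [CommRing R] {x y z : R} {M : Type*} [AddCommGroup M] [Module R M]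

theorem Triple.pair (h : Triple x y z M) : RegPair x y M := ⟨h.inj, h.div⟩

theorem Triple.of_isWeaklyRegular (h : IsWeaklyRegular M [x, y, z]) : Triple x y z M := by
  have hp := RegPair.of_isWeaklyRegular h
  refine ⟨hp.inj, hp.div, fun m n l hm => ?_⟩
  have h' := (isWeaklyRegular_iff M [x, y, z]).1 h 2 (by simp)
  rw [isSMulRegular_quotient_iff_mem_of_smul_mem] at h'
  have h2 : ∀ t : M, t ∈ (Ideal.ofList (List.take 2 [x, y, z]) • ⊤ : Submodule R M) ↔
      ∃ a b : M, t = x • a + y • b := by
    intro t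
    have e : Ideal.ofList (List.take 2 [x, y, z]) = Ideal.span {x} ⊔ Ideal.span {y} := by
      rw [show List.take 2 [x, y, z] = [x, y] from rfl, Ideal.ofList_cons, Ideal.ofList_singleton]
    rw [e, Submodule.sup_smul, Submodule.mem_sup]
    constructor
    · rintro ⟨a, ha, b, hb, rfl⟩
      rw [Submodule.ideal_span_singleton_smul, Submodule.mem_smul_pointwise_iff_exists] at ha hb
      obtain ⟨a', -, rfl⟩ := ha
      obtain ⟨b', -, rfl⟩ := hb
      exact ⟨a', b', rfl⟩
    · rintro ⟨a, b, rfl⟩
      exact ⟨x • a, Submodule.smul_mem_smul (Ideal.mem_span_singleton_self x) trivial, y • b,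
        Submodule.smul_mem_smul (Ideal.mem_span_singleton_self y) trivial, rfl⟩
  exact (h2 m).1 (h' m ((h2 _).2 ⟨n, l, hm⟩))

/-- A regular triple on the ring is a regular triple on every flat module. -/
theorem Triple.of_flat (h : IsWeaklyRegular R [x, y, z]) [Module.Flat R M] : Triple x y z M :=
  .of_isWeaklyRegular (((TensorProduct.rid R M).isWeaklyRegular_congr _).mp
    (h.isWeaklyRegular_lTensor (M₂ := M)))

/-- The main step. -/
theorem exists_of_triple {K F P : Type*} [AddCommGroup K] [Module R K] [AddCommGroup F] [Module R F]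
    [AddCommGroup P] [Module R P] (i : K →ₗ[R] F) (φ : F →ₗ[R] P) (hi : Function.Injective i)
    (hex : ∀ f, φ f = 0 → ∃ k, i k = f) (hcomp : ∀ k, φ (i k) = 0) (hK : Triple x y z K) (hF : RegPair x y F)
    (hP : ∀ p : P, x • p = 0 → p = 0) (q : P) (hx : ∃ a, φ a = x • q) (hy : ∃ b, φ b = y • q)
    (hz : ∃ c, φ c = z • q) : ∃ a, φ a = q := by
  obtain ⟨a, ha⟩ := hx
  obtain ⟨b, hb⟩ := hy
  obtain ⟨c, hc⟩ := hz
  obtain ⟨k₃, h3⟩ := hex (x • b - y • a) (by rw [map_sub, map_smul, map_smul, ha, hb, smul_comm, sub_self])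
  obtain ⟨k₂, h2⟩ := hex (x • c - z • a) (by rw [map_sub, map_smul, map_smul, ha, hc, smul_comm, sub_self])
  obtain ⟨k₁, h1⟩ := hex (y • c - z • b) (by rw [map_sub, map_smul, map_smul, hb, hc, smul_comm, sub_self])
  have h0 : z • k₃ = x • (-k₁) + y • k₂ := by
    apply hi
    rw [map_add, map_smul, map_smul, map_smul, map_neg, h1, h2, h3]
    module
  obtain ⟨u, v, huv⟩ := hK.div3 _ _ _ h0
  have h4 : y • (a + i v) = x • (b - i u) := by
    have := congrArg i huv
    rw [h3, map_add, map_smul, map_smul] at this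
    rw [smul_add, smul_sub]
    rw [sub_eq_iff_eq_add] at this
    rw [this]
    module
  obtain ⟨d, hd⟩ := hF.div _ _ h4
  refine ⟨d, ?_⟩
  have h5 : x • (φ d - q) = 0 := by
    rw [smul_sub, ← map_smul, ← hd, map_add, ha, hcomp, add_zero, sub_self]
  exact sub_eq_zero.1 (hP _ h5)

end

section depth

variable {R : Type u} [CommRing R] [IsNoetherianRing R]

/-- Depth at least three at the primes containing `I` gives weakly regular triples in the powers of `I`. -/
theorem exists_triple (I : Ideal R)
    (h : ∀ (p : Ideal R) [p.IsPrime], I ≤ p → (3 : ℕ∞) ≤ LocCoh.depth (Localization.AtPrime p)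
      (Localization.AtPrime p)) (N : ℕ) :
    ∃ x ∈ I ^ N, ∃ y ∈ I ^ N, ∃ z ∈ I ^ N, IsWeaklyRegular R [x, y, z] := by
  by_cases hI : I ^ N = ⊤
  · refine ⟨1, by rw [hI]; trivial, 1, by rw [hI]; trivial, 1, by rw [hI]; trivial, ?_⟩
    have h1 : ∀ (M : Type u) [AddCommGroup M] [Module R M], IsSMulRegular M (1 : R) := fun M _ _ a b hab => by
      simpa using hab
    rw [isWeaklyRegular_cons_iff, isWeaklyRegular_cons_iff, isWeaklyRegular_singleton_iff]
    exact ⟨h1 _, h1 _, h1 _⟩
  · have hle : ∀ (p : Ideal R) [p.IsPrime], I ^ N ≤ p → I ≤ p := fun p hp hle => hp.le_of_pow_le hle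
    have h3 : ((3 : ℕ) : ℕ∞) ≤ LocCoh.idealDepth (I ^ N) R := by
      refine K966.DepthLocal.le_idealDepth_of_forall (I ^ N) 3 R fun p hp hIp => ?_
      have e : LocalizedModule p.primeCompl R ≃ₗ[Localization.AtPrime p] Localization.AtPrime p :=
        IsLocalizedModule.linearEquiv p.primeCompl (LocalizedModule.mkLinearMap p.primeCompl R)
          (Algebra.linearMap R (Localization.AtPrime p)) |>.extendScalarsOfIsLocalization p.primeCompl _
      rw [LocCoh.depth, Groth.Agent.CalgA.DepthSmall.idealDepth_congr e]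
      exact_mod_cast h p (hle p hIp)
    have hne : (I ^ N) • (⊤ : Submodule R R) ≠ ⊤ := by
      rwa [smul_eq_mul, Ideal.mul_top]
    obtain ⟨rs, hlen, hmem, hreg⟩ := (Groth.Agent.Localalg.Depth.natCast_le_idealDepth_iff hne 3).1 h3
    obtain ⟨x, y, z, rfl⟩ := List.length_eq_three.1 hlen
    exact ⟨x, hmem x (by simp), y, hmem y (by simp), z, hmem z (by simp), hreg.toIsWeaklyRegular⟩

end depth

end K944.RegTriple
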