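import Groth.Agent.NonAbH1.K944.LocAlg
import Groth.Agent.NonAbH1.K944.RegTriple
import Mathlib.RingTheory.Flat.FaithfullyFlat.Basic
import Mathlib.LinearAlgebra.TensorProduct.Basis
import Mathlib.Algebra.Module.Projective

/-!
# Locally trivial comodule algebras over a base of depth at least three along the bad locus

`R` Noetherian, `h : ι → R` finite, regular triples in all powers of the ideal `I` of the `h i`; `ρ : B → B ⊗ A` an
`R`-linear coaction of a unipotent Hopf algebra which is trivial over covers of the `D(h i)`, `B` saturated. Then `B` is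
faithfully flat over `R`.
-/

set_option autoImplicit false
universe u v w

open TensorProduct

namespace K944.GlobAlg

open K944.LocAlg K944.RegTriple Groth.Agent.Divis.DepthTwo RingTheory.Sequence

variable {k R A B : Type u} [Field k] [CommRing R] [Algebra k R] [CommRing A] [HopfAlgebra k A]
  [CommRing B] [Algebra k B] [Algebra R B] [IsScalarTower k R B]

/-- trivial over a cover of `D(f)` -/
def LocTriv (ρ : B →ₗ[R] B ⊗[k] A) (f : R) : Prop :=
  ∃ (C : Type u) (_ : CommRing C) (_ : Algebra k C) (_ : Algebra R C) (_ : IsScalarTower k R C) (v : B →ₐ[R] C),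
    Module.Flat R C ∧ (∀ J : Ideal R, J.map (algebraMap R C) = ⊤ → ∃ N : ℕ, f ^ N ∈ J) ∧
      Function.Bijective (gam v ρ)

/-- the global data -/
structure Data {ι : Type} (h : ι → R) (ρ : B →ₗ[R] B ⊗[k] A) : Prop where
  coact : IsCoact ρ
  triple : ∀ N : ℕ, ∃ x ∈ Ideal.span (Set.range h) ^ N, ∃ y ∈ Ideal.span (Set.range h) ^ N,
    ∃ z ∈ Ideal.span (Set.range h) ^ N, IsWeaklyRegular R [x, y, z]
  pair : ∀ x y : R, RegPair x y R → RegPair x y B
  loc : ∀ i, LocTriv ρ (h i)

section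

variable {ι : Type} [Finite ι] {h : ι → R} {ρ : B →ₗ[R] B ⊗[k] A}

theorem exists_pow_le (J : Ideal R) (hJ : ∀ i, ∃ N : ℕ, h i ^ N ∈ J) :
    ∃ N : ℕ, Ideal.span (Set.range h) ^ N ≤ J := by
  refine Ideal.exists_pow_le_of_le_radical_of_fg ?_ ?_
  · rw [Ideal.span_le]
    rintro _ ⟨i, rfl⟩
    exact hJ i
  · exact ⟨(Set.finite_range h).toFinset, by simp⟩

variable (H : Data h ρ)

include H

theorem Data.injective : Function.Injective (algebraMap R B) := by
  rw [injective_iff_map_eq_zero]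
  intro r hr
  obtain ⟨N, hN⟩ := exists_pow_le (h := h) (Ideal.span {r}).annihilator (fun i => by
    obtain ⟨C, _, _, _, _, v, h1, h2, h3⟩ := H.loc i
    obtain ⟨N, hN⟩ := algebraMap_eq_zero v h2 r hr
    refine ⟨N, ?_⟩
    rw [Submodule.mem_annihilator_span_singleton]
    exact hN)
  obtain ⟨x, hx, y, hy, z, hz, hxyz⟩ := H.triple N
  have h1 := hN hx
  rw [Submodule.mem_annihilator_span_singleton] at h1
  exact (RegPair.of_isWeaklyRegular hxyz).inj _ h1

theorem Data.invariants (b : B) (hb : ρ b = b ⊗ₜ[k] (1 : A)) : ∃ r : R, algebraMap R B r = b := by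
  let L : Submodule R B := LinearMap.range (Algebra.linearMap R B)
  obtain ⟨N, hN⟩ := exists_pow_le (h := h) (L.comap (LinearMap.toSpanSingleton R B b)) (fun i => by
    obtain ⟨C, _, _, _, _, v, h1, h2, h3⟩ := H.loc i
    obtain ⟨N, r, hr⟩ := exists_pow_smul_invariant v h2 h3 H.coact b hb
    exact ⟨N, r, hr.symm⟩)
  obtain ⟨x, hx, y, hy, z, hz, hxyz⟩ := H.triple N
  have hp := RegPair.of_isWeaklyRegular hxyz
  obtain ⟨r₁, h1⟩ := hN hx
  obtain ⟨r₂, h2⟩ := hN hy
  rw [Algebra.linearMap_apply, LinearMap.toSpanSingleton_apply] at h1 h2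
  obtain ⟨l, hl⟩ := hp.div r₁ r₂ (by
    apply H.injective
    rw [smul_eq_mul, smul_eq_mul, map_mul, map_mul, h1, h2, ← Algebra.smul_def, ← Algebra.smul_def, smul_comm])
  refine ⟨l, ?_⟩
  have h3 : x • (algebraMap R B l - b) = 0 := by
    rw [smul_sub, ← h1, hl, smul_eq_mul, map_mul, ← Algebra.smul_def, sub_self]
  exact sub_eq_zero.1 ((H.pair _ _ hp).inj _ h3)

omit [IsScalarTower k R B] H in
theorem smul_tensor_eq_zero {x : R} (hx : ∀ b : B, x • b = 0 → b = 0) [IsScalarTower k R B] {V : Type w}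
    [AddCommGroup V] [Module k V] (t : B ⊗[k] V) (ht : x • t = 0) : t = 0 := by
  let m : B →ₗ[k] B := (LinearMap.lsmul R B x).restrictScalars k
  have hm : Function.Injective m := by
    rw [injective_iff_map_eq_zero]
    exact hx
  have h1 := Module.Flat.rTensor_preserves_injective_linearMap (M := V) m hm
  have h2 : ∀ t : B ⊗[k] V, m.rTensor V t = x • t := by
    intro t
    induction t with
    | zero => simp
    | add a b ha hb => rw [map_add, ha, hb, smul_add]
    | tmul a b => rfl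
  apply h1
  rw [h2, ht, map_zero]

/-- the lifting statement over `R` -/
theorem Data.exists_lift {D : ℕ → Submodule k A} (hD : Filt.IsFilt D) (r : ℕ) [Module.Flat R (fil ρ (D r))]
    (a : A) (ha : a ∈ D (r + 1)) :
    ∃ b ∈ fil ρ (D (r + 1)), th ρ (D r).mkQ b = (1 : B) ⊗ₜ[k] (D r).mkQ a := by
  let φ : fil ρ (D (r + 1)) →ₗ[R] B ⊗[k] (A ⧸ D r) := th ρ (D r).mkQ ∘ₗ (fil ρ (D (r + 1))).subtype
  let i : fil ρ (D r) →ₗ[R] fil ρ (D (r + 1)) := Submodule.inclusion (fil_mono ρ (hD.mono (Nat.le_succ r)))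
  let q : B ⊗[k] (A ⧸ D r) := (1 : B) ⊗ₜ[k] (D r).mkQ a
  obtain ⟨N, hN⟩ := exists_pow_le (h := h) ((LinearMap.range φ).comap (LinearMap.toSpanSingleton R _ q)) (fun i => by
    obtain ⟨C, _, _, _, _, v, h1, h2, h3⟩ := H.loc i
    obtain ⟨N, b, hb, hb'⟩ := exists_mem_fil v hD H.coact h2 h3 r a ha
    exact ⟨N, ⟨b, hb⟩, hb'⟩)
  obtain ⟨x, hx, y, hy, z, hz, hxyz⟩ := H.triple N
  have hp := RegPair.of_isWeaklyRegular hxyz
  have hpB := H.pair _ _ hp
  obtain ⟨⟨b, hb⟩, hb'⟩ := exists_of_triple i φ (Submodule.inclusion_injective _)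
    (fun f hf => ⟨⟨f, hf⟩, rfl⟩) (fun k => k.2) (Triple.of_flat hxyz)
    ⟨fun m hm => Subtype.ext (hpB.inj _ (congrArg Subtype.val hm)), fun m n hmn => by
      obtain ⟨l, hl⟩ := hpB.div _ _ (congrArg Subtype.val hmn)
      refine ⟨⟨l, ?_⟩, Subtype.ext hl⟩
      rw [mem_fil]
      apply smul_tensor_eq_zero hpB.inj
      have h1 : th ρ (D (r + 1)).mkQ (m : B) = 0 := m.2
      rw [← map_smul]
      rw [show (m : B) = x • l from hl] at h1
      exact h1⟩
    (smul_tensor_eq_zero hpB.inj) q (hN hx) (hN hy) (hN hz)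
  exact ⟨b, hb, hb'⟩

end

section split

variable {ι : Type} [Finite ι] {h : ι → R} {ρ : B →ₗ[R] B ⊗[k] A} (H : Data h ρ)
  {D : ℕ → Submodule k A} (hD : Filt.IsFilt D) (r : ℕ)

/-- the graded piece -/
abbrev gr (D : ℕ → Submodule k A) (r : ℕ) : Submodule k (A ⧸ D r) := (D (r + 1)).map (D r).mkQ

omit [Algebra k R] [CommRing B] [Algebra k B] [Algebra R B] [IsScalarTower k R B] [CommRing R] in
lemma comul_gr (hD : Filt.IsFilt D) (r : ℕ) :
    (D r).mkQ.lTensor A ∘ₗ CoalgebraStruct.comul (R := k) (A := A) ∘ₗ (D (r + 1)).subtype =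
      TensorProduct.mk k A (A ⧸ D r) 1 ∘ₗ (D r).mkQ ∘ₗ (D (r + 1)).subtype := by
  ext ⟨a, ha⟩
  change (D r).mkQ.lTensor A (CoalgebraStruct.comul (R := k) a) = (1 : A) ⊗ₜ[k] (D r).mkQ a
  obtain ⟨t, ht⟩ := hD.comul r a ha
  rw [← sub_eq_zero]
  have h0 : (D r).mkQ.lTensor A ((1 : A) ⊗ₜ[k] a) = (1 : A) ⊗ₜ[k] (D r).mkQ a := rfl
  rw [← h0, ← map_sub, ← ht, ← LinearMap.comp_apply, ← LinearMap.lTensor_comp]
  have h2 : (D r).mkQ ∘ₗ (D r).subtype = 0 := by
    ext x
    exact (Submodule.Quotient.mk_eq_zero _).2 x.2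
  rw [h2, LinearMap.lTensor_zero, LinearMap.zero_apply]

include hD in
/-- The image of the step `r + 1` in the tensor product with the quotient is invariant. -/
lemma assoc_th (hρ : IsCoact ρ) (b : B) (hb : b ∈ fil ρ (D (r + 1))) :
    TensorProduct.assoc k B A (A ⧸ D r) ((ρ.restrictScalars k).rTensor _ (th ρ (D r).mkQ b)) =
      TensorProduct.assoc k B A (A ⧸ D r) (((TensorProduct.mk k B A).flip 1).rTensor _ (th ρ (D r).mkQ b)) := by
  rw [mem_fil_iff] at hb
  obtain ⟨t, ht⟩ := hb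
  have h1 : ∀ s : B ⊗[k] A, TensorProduct.assoc k B A (A ⧸ D r) ((ρ.restrictScalars k).rTensor _
      ((D r).mkQ.lTensor B s)) = ((D r).mkQ.lTensor A).lTensor B (TensorProduct.assoc k B A A
        ((ρ.restrictScalars k).rTensor _ s)) := by
    intro s
    induction s with
    | zero => simp only [map_zero]
    | add x y hx hy => simp only [map_add, hx, hy]
    | tmul x a =>
      rw [LinearMap.lTensor_tmul, LinearMap.rTensor_tmul, LinearMap.rTensor_tmul]
      generalize (ρ.restrictScalars k) x = u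
      induction u with
      | zero => simp only [map_zero, zero_tmul]
      | add x y hx hy => simp only [map_add, add_tmul, hx, hy]
      | tmul x y => rfl
  have h2 : ∀ s : B ⊗[k] A, TensorProduct.assoc k B A (A ⧸ D r) (((TensorProduct.mk k B A).flip 1).rTensor _
      ((D r).mkQ.lTensor B s)) = (TensorProduct.mk k A (A ⧸ D r) 1 ∘ₗ (D r).mkQ).lTensor B s := by
    intro s
    induction s with
    | zero => simp only [map_zero]
    | add x y hx hy => simp only [map_add, hx, hy]
    | tmul x a => rfl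
  rw [th_apply, h1, h2, hρ.coassoc, ← ht, ← LinearMap.comp_apply, ← LinearMap.lTensor_comp, ← LinearMap.comp_apply,
    ← LinearMap.lTensor_comp, ← LinearMap.comp_apply, ← LinearMap.lTensor_comp, LinearMap.comp_assoc, comul_gr hD r,
    LinearMap.comp_assoc]

include H hD in
/-- Elements of the image are combinations of a basis of the graded piece with coefficients in `R`. -/
lemma exists_coeff {J : Type u} (𝓑 : Module.Basis J k (gr D r)) (b : B) (hb : b ∈ fil ρ (D (r + 1))) :
    ∃ y : J →₀ R, th ρ (D r).mkQ b = y.sum fun j s => s • ((1 : B) ⊗ₜ[k] (𝓑 j : A ⧸ D r)) := by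
  classical
  -- an element of `B ⊗ gr`
  obtain ⟨t, ht⟩ : ∃ t : B ⊗[k] (gr D r), (gr D r).subtype.lTensor B t = th ρ (D r).mkQ b := by
    rw [mem_fil_iff] at hb
    obtain ⟨t, ht⟩ := hb
    refine ⟨(((D r).mkQ ∘ₗ (D (r + 1)).subtype).codRestrict (gr D r) fun x => ⟨x, x.2, rfl⟩).lTensor B t, ?_⟩
    rw [← LinearMap.comp_apply, ← LinearMap.lTensor_comp, th_apply, ← ht, ← LinearMap.comp_apply,
      ← LinearMap.lTensor_comp]
    rfl
  obtain ⟨c, hc⟩ := TensorProduct.eq_repr_basis_right 𝓑 t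
  have hinj : Function.Injective ((gr D r).subtype.lTensor (B ⊗[k] A)) :=
    Module.Flat.lTensor_preserves_injective_linearMap _ (gr D r).subtype_injective
  have hcomm : ∀ (f : B →ₗ[k] B ⊗[k] A) (s : B ⊗[k] (gr D r)), (gr D r).subtype.lTensor (B ⊗[k] A)
      (f.rTensor (gr D r) s) = f.rTensor (A ⧸ D r) ((gr D r).subtype.lTensor B s) := by
    intro f s
    rw [← LinearMap.comp_apply, ← LinearMap.comp_apply, LinearMap.lTensor_comp_rTensor,
      LinearMap.rTensor_comp_lTensor]
  have h1 : (ρ.restrictScalars k).rTensor (gr D r) t = ((TensorProduct.mk k B A).flip 1).rTensor (gr D r) t := by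
    apply hinj
    rw [hcomm, hcomm, ht]
    exact (TensorProduct.assoc k B A (A ⧸ D r)).injective (assoc_th hD r H.coact b hb)
  have h2 : ∀ f : B →ₗ[k] B ⊗[k] A, f.rTensor (gr D r) t =
      (c.mapRange f (map_zero f)).sum fun j m => m ⊗ₜ[k] 𝓑 j := by
    intro f
    rw [← hc, Finsupp.sum, map_sum, Finsupp.sum_mapRange_index (fun i => by rw [zero_tmul])]
    rfl
  rw [h2, h2] at h1
  have h3 : c.mapRange (ρ.restrictScalars k) (map_zero _) =
      c.mapRange ((TensorProduct.mk k B A).flip 1) (map_zero _) :=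
    TensorProduct.sum_tmul_basis_right_injective (M := B ⊗[k] A) 𝓑 h1
  have h4 : ∀ j, ∃ s : R, algebraMap R B s = c j := fun j => H.invariants (c j) (by
    have := DFunLike.congr_fun h3 j
    rw [Finsupp.mapRange_apply, Finsupp.mapRange_apply] at this
    exact this)
  choose s hs using h4
  let y : J →₀ R := Finsupp.onFinset c.support s (fun j hj => by
    rw [Finsupp.mem_support_iff, ← hs j]
    intro h0
    exact hj (H.injective (by rw [h0, map_zero])))
  have hy : y.mapRange (algebraMap R B) (map_zero _) = c := by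
    ext j
    exact hs j
  refine ⟨y, ?_⟩
  rw [← ht, ← hc, ← hy, Finsupp.sum_mapRange_index (fun i => by rw [zero_tmul]), Finsupp.sum, map_sum]
  refine Finset.sum_congr rfl fun j _ => ?_
  change algebraMap R B (y j) ⊗ₜ[k] (𝓑 j : A ⧸ D r) = y j • ((1 : B) ⊗ₜ[k] (𝓑 j : A ⧸ D r))
  rw [TensorProduct.smul_tmul', Algebra.smul_def, mul_one]

omit [Finite ι] in
lemma eq_zero_of_sum (hinj : Function.Injective (algebraMap R B)) {J : Type u} (𝓑 : Module.Basis J k (gr D r))
    (y : J →₀ R) (hy : (y.sum fun j s => s • ((1 : B) ⊗ₜ[k] (𝓑 j : A ⧸ D r))) = 0) : y = 0 := by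
  classical
  have hinj' : Function.Injective ((gr D r).subtype.lTensor B) :=
    Module.Flat.lTensor_preserves_injective_linearMap _ (gr D r).subtype_injective
  have h1 : ((y.mapRange (algebraMap R B) (map_zero _)).sum fun j m => m ⊗ₜ[k] 𝓑 j) = 0 := by
    apply hinj'
    rw [map_zero, ← hy, Finsupp.sum_mapRange_index (fun i => by rw [zero_tmul]), Finsupp.sum, map_sum]
    refine Finset.sum_congr rfl fun j _ => ?_
    change algebraMap R B (y j) ⊗ₜ[k] (𝓑 j : A ⧸ D r) = y j • ((1 : B) ⊗ₜ[k] (𝓑 j : A ⧸ D r))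
    rw [TensorProduct.smul_tmul', Algebra.smul_def, mul_one]
  have h2 := TensorProduct.sum_tmul_basis_right_eq_zero 𝓑 _ h1
  ext j
  have h3 := DFunLike.congr_fun h2 j
  rw [Finsupp.mapRange_apply] at h3
  exact hinj (h3.trans (map_zero _).symm)

include H hD in
/-- The step `r + 1` is the sum of the step `r` and a free module. -/
theorem exists_equiv [Module.Flat R (fil ρ (D r))] : ∃ (J : Type u) (e : (fil ρ (D r) × (J →₀ R)) ≃ₗ[R]
    fil ρ (D (r + 1))), ∀ x : fil ρ (D r), (e (x, 0) : B) = x := by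
  classical
  let 𝓑 := Module.Basis.ofVectorSpace k (gr D r)
  have h1 : ∀ j, ∃ b ∈ fil ρ (D (r + 1)), th ρ (D r).mkQ b = (1 : B) ⊗ₜ[k] (𝓑 j : A ⧸ D r) := by
    intro j
    obtain ⟨a, ha, ha'⟩ := (𝓑 j).2
    rw [← ha']
    exact H.exists_lift hD r a ha
  choose b hb hb' using h1
  let σ : ((Module.Basis.ofVectorSpaceIndex k (gr D r)) →₀ R) →ₗ[R] fil ρ (D (r + 1)) :=
    Finsupp.linearCombination R fun j => (⟨b j, hb j⟩ : fil ρ (D (r + 1)))
  have hσ : ∀ y, th ρ (D r).mkQ (σ y : B) = y.sum fun j s => s • ((1 : B) ⊗ₜ[k] (𝓑 j : A ⧸ D r)) := by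
    intro y
    have h2 : (σ y : B) = y.sum fun j s => s • b j := by
      change (fil ρ (D (r + 1))).subtype (σ y) = _
      rw [Finsupp.linearCombination_apply, Finsupp.sum, map_sum]
      rfl
    rw [h2, Finsupp.sum, map_sum]
    refine Finset.sum_congr rfl fun j _ => ?_
    rw [map_smul, hb']
  let inc : fil ρ (D r) →ₗ[R] fil ρ (D (r + 1)) := Submodule.inclusion (fil_mono ρ (hD.mono (Nat.le_succ r)))
  let E := inc.coprod σ
  have hE : Function.Bijective E := by
    constructor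
    · rw [injective_iff_map_eq_zero]
      rintro ⟨x, y⟩ hxy
      have h2 : (x : B) + (σ y : B) = 0 := congrArg Subtype.val hxy
      have h3 : th ρ (D r).mkQ (σ y : B) = 0 := by
        have h4 := congrArg (th ρ (D r).mkQ) h2
        rw [map_add, map_zero, show th ρ (D r).mkQ (x : B) = 0 from x.2, zero_add] at h4
        exact h4
      rw [hσ] at h3
      have hy : y = 0 := eq_zero_of_sum r H.injective 𝓑 y h3
      subst hy
      rw [map_zero] at h2
      have hx : x = 0 := Subtype.ext (by simpa using h2)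
      rw [hx]
      rfl
    · rintro ⟨c, hc⟩
      obtain ⟨y, hy⟩ := exists_coeff H hD r 𝓑 c hc
      refine ⟨(⟨c - σ y, ?_⟩, y), ?_⟩
      · rw [mem_fil, map_sub, hσ, hy, sub_self]
      · apply Subtype.ext
        change (c - (σ y : B)) + (σ y : B) = c
        abel
  refine ⟨_, LinearEquiv.ofBijective E hE, fun x => ?_⟩
  change ((inc x + σ 0 : fil ρ (D (r + 1))) : B) = x
  rw [map_zero, add_zero]
  rfl

end split

section main

variable {ι : Type} [Finite ι] {h : ι → R} {ρ : B →ₗ[R] B ⊗[k] A} (H : Data h ρ)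
  {D : ℕ → Submodule k A} (hD : Filt.IsFilt D)

lemma eq_bot_of_zero (hρ : IsCoact ρ) (hD0 : D 0 = ⊥) : fil ρ (D 0) = ⊥ := by
  rw [eq_bot_iff]
  intro b hb
  rw [mem_fil_iff, hD0] at hb
  obtain ⟨t, ht⟩ := hb
  have h1 : ρ b = 0 := by
    rw [← ht]
    have : (⊥ : Submodule k A).subtype = 0 := by
      ext ⟨x, hx⟩
      exact hx
    rw [this, LinearMap.lTensor_zero, LinearMap.zero_apply]
  have h2 := hρ.counit b
  rw [h1, map_zero] at h2
  have h3 := congrArg (TensorProduct.rid k B) h2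
  rw [map_zero, TensorProduct.rid_tmul, one_smul] at h3
  exact h3.symm

lemma invariant_of_one (hρ : IsCoact ρ) (hD1 : D 1 = Submodule.span k {(1 : A)}) (b : B)
    (hb : b ∈ fil ρ (D 1)) : ρ b = b ⊗ₜ[k] (1 : A) := by
  rw [mem_fil_iff] at hb
  obtain ⟨t, ht⟩ := hb
  have h1 : ∀ t : B ⊗[k] (D 1), ∃ b' : B, (D 1).subtype.lTensor B t = b' ⊗ₜ[k] (1 : A) := by
    intro t
    induction t with
    | zero => exact ⟨0, by simp⟩
    | add x y hx hy =>
      obtain ⟨a, ha⟩ := hx
      obtain ⟨c, hc⟩ := hy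
      exact ⟨a + c, by rw [map_add, ha, hc, add_tmul]⟩
    | tmul x y =>
      have hy : (y : A) ∈ Submodule.span k {(1 : A)} := hD1 ▸ y.2
      obtain ⟨s, hs⟩ := Submodule.mem_span_singleton.1 hy
      refine ⟨s • x, ?_⟩
      rw [LinearMap.lTensor_tmul, TensorProduct.smul_tmul, hs]
      rfl
  obtain ⟨b', hb'⟩ := h1 t
  rw [hb'] at ht
  have h2 := hρ.counit b
  rw [← ht, LinearMap.lTensor_tmul] at h2
  have h3 : CoalgebraStruct.counit (R := k) (1 : A) = 1 := Bialgebra.counit_one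
  have h4 := congrArg (TensorProduct.rid k B) h2
  rw [h3, TensorProduct.rid_tmul, TensorProduct.rid_tmul, one_smul, one_smul] at h4
  rw [← ht, h4]

lemma one_mem (hρ : IsCoact ρ) (hD : Filt.IsFilt D) {n : ℕ} (hn : 1 ≤ n) : (1 : B) ∈ fil ρ (D n) := by
  rw [mem_fil_iff, hρ.one]
  have h1 : (1 : A) ∈ D n := hD.mono hn (by rw [hD.one]; exact Submodule.mem_span_singleton_self _)
  exact ⟨(1 : B) ⊗ₜ ⟨1, h1⟩, rfl⟩

include H hD in
theorem projective_and_retract (n : ℕ) : Module.Projective R (fil ρ (D n)) ∧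
    (1 ≤ n → ∃ τ : fil ρ (D n) →ₗ[R] R, ∀ x : fil ρ (D n), (x : B) = 1 → τ x = 1) := by
  induction n with
  | zero =>
    refine ⟨?_, by omega⟩
    rw [eq_bot_of_zero H.coact hD.zero]
    infer_instance
  | succ n ih =>
    obtain ⟨h1, h2⟩ := ih
    obtain ⟨J, e, he⟩ := exists_equiv H hD n
    refine ⟨Module.Projective.of_equiv e, fun _ => ?_⟩
    cases n with
    | zero =>
      let τ₀ : R →ₗ[R] fil ρ (D 1) := (Algebra.linearMap R B).codRestrict _ (fun r => by
        rw [Algebra.linearMap_apply, Algebra.algebraMap_eq_smul_one]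
        exact Submodule.smul_mem _ _ (one_mem H.coact hD le_rfl))
      have hτ : Function.Bijective τ₀ := by
        constructor
        · intro r s hrs
          exact H.injective (congrArg Subtype.val hrs)
        · rintro ⟨b, hb⟩
          obtain ⟨r, hr⟩ := H.invariants b (invariant_of_one H.coact hD.one b hb)
          exact ⟨r, Subtype.ext hr⟩
      refine ⟨(LinearEquiv.ofBijective τ₀ hτ).symm.toLinearMap, fun x hx => ?_⟩
      change (LinearEquiv.ofBijective τ₀ hτ).symm x = 1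
      rw [LinearEquiv.symm_apply_eq]
      apply Subtype.ext
      rw [hx]
      change (1 : B) = algebraMap R B 1
      rw [map_one]
    | succ n =>
      obtain ⟨τ, hτ⟩ := h2 (by omega)
      refine ⟨τ ∘ₗ LinearMap.fst R _ _ ∘ₗ e.symm.toLinearMap, fun x hx => ?_⟩
      have h3 : e (⟨1, one_mem H.coact hD (by omega)⟩, 0) = x := Subtype.ext (by rw [he, hx])
      change τ (e.symm x).1 = 1
      rw [← h3, LinearEquiv.symm_apply_apply]
      exact hτ _ rfl

include H hD in
/-- The main theorem: `B` is faithfully flat over `R`. -/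
theorem faithfullyFlat : Module.FaithfullyFlat R B := by
  have htop : ∀ b : B, ∃ n, b ∈ fil ρ (D n) := by
    intro b
    have h1 : ∀ t : B ⊗[k] A, ∃ n, t ∈ LinearMap.range ((D n).subtype.lTensor B) := by
      intro t
      induction t with
      | zero => exact ⟨0, zero_mem _⟩
      | add x y hx hy =>
        obtain ⟨n, a, ha⟩ := hx
        obtain ⟨m, c, hc⟩ := hy
        refine ⟨max n m, add_mem ⟨(Submodule.inclusion (hD.mono (le_max_left n m))).lTensor B a, ?_⟩
          ⟨(Submodule.inclusion (hD.mono (le_max_right n m))).lTensor B c, ?_⟩⟩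
        · rw [← ha, ← LinearMap.comp_apply, ← LinearMap.lTensor_comp]; rfl
        · rw [← hc, ← LinearMap.comp_apply, ← LinearMap.lTensor_comp]; rfl
      | tmul x a =>
        obtain ⟨n, hn⟩ := hD.top a
        exact ⟨n, x ⊗ₜ ⟨a, hn⟩, rfl⟩
    obtain ⟨n, hn⟩ := h1 (ρ b)
    exact ⟨n, mem_fil_iff.2 hn⟩
  have hmono : Monotone fun n => fil ρ (D n) := fun i j hij => fil_mono ρ (hD.mono hij)
  have hflat : Module.Flat R B := by
    rw [Module.Flat.iff_forall_isTrivialRelation]
    intro l f x hx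
    choose n hn using fun i => htop (x i)
    let N := Finset.univ.sup n
    have hN : ∀ i, x i ∈ fil ρ (D N) := fun i => hmono (Finset.le_sup (Finset.mem_univ i)) (hn i)
    have := (projective_and_retract H hD N).1
    have h1 : ∑ i, f i • (⟨x i, hN i⟩ : fil ρ (D N)) = 0 := by
      apply Subtype.ext
      rw [AddSubmonoidClass.coe_finsetSum]
      exact hx
    obtain ⟨k', a, y, hy, ha⟩ := Module.Flat.isTrivialRelation_of_sum_smul_eq_zero h1
    refine ⟨k', a, fun j => (y j : B), fun i => ?_, ha⟩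
    have h2 := congrArg (fil ρ (D N)).subtype (hy i)
    rw [map_sum] at h2
    exact h2
  refine ⟨fun m hm hB => ?_⟩
  have h1 : (1 : B) ∈ m • (⊤ : Submodule R B) := by rw [hB]; trivial
  have h2 : ∀ b ∈ m • (⊤ : Submodule R B), ∃ n, ∃ (hb : b ∈ fil ρ (D n)), ∀ τ : fil ρ (D n) →ₗ[R] R,
      τ ⟨b, hb⟩ ∈ m := by
    intro b hb
    refine Submodule.smul_induction_on hb (fun s hs c _ => ?_) (fun x y hx hy => ?_)
    · obtain ⟨n, hn⟩ := htop c
      refine ⟨n, Submodule.smul_mem _ _ hn, fun τ => ?_⟩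
      have h3 : (⟨s • c, Submodule.smul_mem _ _ hn⟩ : fil ρ (D n)) = s • ⟨c, hn⟩ := rfl
      rw [h3, map_smul]
      exact Ideal.mul_mem_right _ _ hs
    · obtain ⟨n, hn, hn'⟩ := hx
      obtain ⟨l, hl, hl'⟩ := hy
      refine ⟨max n l, add_mem (hmono (le_max_left n l) hn) (hmono (le_max_right n l) hl), fun τ => ?_⟩
      have h3 := hn' (τ ∘ₗ Submodule.inclusion (hmono (le_max_left n l)))
      have h4 := hl' (τ ∘ₗ Submodule.inclusion (hmono (le_max_right n l)))
      have h5 := add_mem h3 h4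
      rw [LinearMap.comp_apply, LinearMap.comp_apply, ← map_add] at h5
      exact h5
  obtain ⟨n, hn, hn'⟩ := h2 1 h1
  have hn1 : fil ρ (D n) ≤ fil ρ (D (n + 1)) := hmono (Nat.le_succ n)
  obtain ⟨τ, hτ⟩ := (projective_and_retract H hD (n + 1)).2 (by omega)
  have h3 := hn' (τ ∘ₗ Submodule.inclusion hn1)
  rw [LinearMap.comp_apply, hτ _ rfl] at h3
  exact hm.ne_top ((Ideal.eq_top_iff_one m).2 h3)

end main

end K944.GlobAlg
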