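import Groth.Agent.NonAbH1.K944.Chart
import Groth.Agent.NonAbH1.K944.GlobAlg
import Groth.Agent.NonAbH1.K550.LocFree

/-!
# Faithful flatness on a chart

The affine form of the extension theorem: `Spec B → Spec R` with an action of `Spec A`, `A` a unipotent Hopf algebra,
simply transitive over an open `V` whose complement has depth at least three, and `B` the ring of sections over `V`.
Then `B` is faithfully flat over `R`.
-/

set_option autoImplicit false
universe u

open CategoryTheory CategoryTheory.Limits MonoidalCategory CartesianMonoidalCategory MonObj GrpObj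
  AlgebraicGeometry TopologicalSpace
open TensorProduct

namespace K944.ChartFF

open Groth.Agent.Books.AffBridge Groth.Agent.Desc.AffineHull K550.SatMod K550.SecLoc K944.Chart
  K944.GlobAlg Groth.Agent.Divis.DepthTwo

variable {k : Type u} [Field k] {A R B : Type u} [CommRing A] [HopfAlgebra k A] [CommRing R] [Algebra k R]
  [CommRing B] [Algebra k B] [Algebra R B] [IsScalarTower k R B]

omit [Field k] [Algebra k R] [Algebra k B] [IsScalarTower k R B] in
theorem isSat_of_ringEquiv {κ : Type*} (h : κ → R) {C : Type*} [CommRing C] (e : B ≃+* C)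
    (hs : IsSat (fun i => e (algebraMap R B (h i))) C) : IsSat h B := by
  refine ⟨fun m hm => e.injective ?_, fun n m hm => ?_⟩
  · rw [map_zero]
    refine hs.sep _ fun i => ?_
    obtain ⟨n, hn⟩ := hm i
    exact ⟨n, by rw [smul_eq_mul, ← map_pow, ← map_mul, ← map_pow, ← Algebra.smul_def, hn, map_zero]⟩
  · obtain ⟨m₀, hm₀⟩ := hs.glue n (fun i => e (m i)) (fun i j => by
      obtain ⟨l, hl⟩ := hm i j
      refine ⟨l, ?_⟩
      have := congrArg e hl
      simpa only [Algebra.smul_def, Algebra.algebraMap_self_apply, smul_eq_mul, map_mul, map_sub, map_pow,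
        map_zero] using this)
    refine ⟨e.symm m₀, fun i => ?_⟩
    obtain ⟨l, hl⟩ := hm₀ i
    refine ⟨l, e.injective ?_⟩
    simpa only [Algebra.smul_def, Algebra.algebraMap_self_apply, smul_eq_mul, map_mul, map_sub, map_pow, map_zero,
      e.apply_symm_apply] using hl

theorem isSat_of_oIso {κ : Type*} (h : κ → R) (V : (SpecOver k R).left.Opens)
    (hV : V = ⨆ i, (PrimeSpectrum.basicOpen (h i) : Opens (PrimeSpectrum R)))
    (hO : OIso (pullback.fst (pr k R B).left V.ι)) : IsSat h B := by
  let Y : Scheme.{u} := Spec (CommRingCat.of B)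
  let π : Y ⟶ (SpecOver k R).left := (pr k R B).left
  let e : B ≃+* Γ(Y, ⊤) := (Scheme.ΓSpecIso (CommRingCat.of B)).symm.commRingCatIsoToRingEquiv
  refine isSat_of_ringEquiv h e ?_
  have hW : π ⁻¹ᵁ V = ⨆ i, Y.basicOpen (e (algebraMap R B (h i))) := by
    have h1 : π ⁻¹ᵁ V = π ⁻¹ᵁ (⨆ i, (show (SpecOver k R).left.Opens from PrimeSpectrum.basicOpen (h i))) :=
      congrArg (fun W => π ⁻¹ᵁ W) hV
    rw [h1, Scheme.Hom.preimage_iSup]
    refine iSup_congr fun i => ?_
    exact (basicOpen_eq_of_affine (R := CommRingCat.of B) (algebraMap R B (h i))).symm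
  refine isSat_of_bijective (isAffineOpen_top Y) (fun i => e (algebraMap R B (h i))) (W := π ⁻¹ᵁ V) hW le_top
    (bijective_res_of_oIso (pullback.fst (pr k R B).left V.ι) ⊤ _ _ ?_)
  rw [Scheme.Hom.opensRange_pullbackFst, Scheme.Opens.opensRange_ι]
  exact fun x hx => hx.2

omit [Field k] [Algebra k R] [Algebra k B] [IsScalarTower k R B] in
theorem exists_pow_mem_of_map_eq_top (f : R)
    (hs : ∀ p : PrimeSpectrum R, f ∉ p.asIdeal → ∃ q : PrimeSpectrum B, PrimeSpectrum.comap (algebraMap R B) q = p)
    (J : Ideal R) (hJ : J.map (algebraMap R (Localization.Away (algebraMap R B f))) = ⊤) :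
    ∃ N : ℕ, f ^ N ∈ J := by
  by_contra hcon
  have h1 : f ∉ J.radical := hcon
  rw [Ideal.radical_eq_sInf, Submodule.mem_sInf] at h1
  push Not at h1
  obtain ⟨p, ⟨hJp, hp⟩, hfp⟩ := h1
  obtain ⟨q, hq⟩ := hs ⟨p, hp⟩ hfp
  have hqp : q.asIdeal.comap (algebraMap R B) = p := congrArg PrimeSpectrum.asIdeal hq
  have hfq : algebraMap R B f ∉ q.asIdeal := fun hcon => hfp (by rw [← hqp]; exact hcon)
  have hdis : Disjoint (Submonoid.powers (algebraMap R B f) : Set B) (q.asIdeal : Set B) := by
    rw [Set.disjoint_left]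
    rintro _ ⟨n, rfl⟩ hn
    exact hfq (q.isPrime.mem_of_pow_mem n hn)
  have hprime := IsLocalization.isPrime_of_isPrime_disjoint (Submonoid.powers (algebraMap R B f))
    (Localization.Away (algebraMap R B f)) q.asIdeal q.isPrime hdis
  apply hprime.ne_top
  rw [eq_top_iff, ← hJ, IsScalarTower.algebraMap_eq R B (Localization.Away (algebraMap R B f)), ← Ideal.map_map]
  refine Ideal.map_mono ?_
  rw [Ideal.map_le_iff_le_comap, hqp]
  exact hJp

theorem range_le_of_basicOpen (f : R) (V : (SpecOver k R).left.Opens)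
    (hf : (PrimeSpectrum.basicOpen f : Opens (PrimeSpectrum R)) ≤ V) :
    Set.range (pr k R (Localization.Away (algebraMap R B f))).left ⊆ (V : Set _) := by
  rintro _ ⟨y, rfl⟩
  apply hf
  change algebraMap R (Localization.Away (algebraMap R B f)) f ∉ (y : PrimeSpectrum _).asIdeal
  intro hcon
  have : IsUnit (algebraMap R (Localization.Away (algebraMap R B f)) f) := by
    rw [IsScalarTower.algebraMap_apply R B (Localization.Away (algebraMap R B f))]
    exact IsLocalization.Away.algebraMap_isUnit (algebraMap R B f)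
  exact (y : PrimeSpectrum _).isPrime.ne_top (Ideal.eq_top_of_isUnit_mem _ hcon this)

theorem flat_away (f : R) (V : (SpecOver k R).left.Opens)
    (hf : (PrimeSpectrum.basicOpen f : Opens (PrimeSpectrum R)) ≤ V)
    (hfl : Flat (pullback.snd (pr k R B).left V.ι)) :
    Module.Flat R (Localization.Away (algebraMap R B f)) := by
  let C := Localization.Away (algebraMap R B f)
  let c : Spec (CommRingCat.of C) ⟶ Spec (CommRingCat.of B) := Spec.map (CommRingCat.ofHom (algebraMap B C))
  have hc : IsOpenImmersion c := inferInstance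
  let π : Spec (CommRingCat.of B) ⟶ (SpecOver k R).left := (pr k R B).left
  have hcπ : c ≫ π = (pr k R C).left := by
    change Spec.map _ ≫ Spec.map _ = Spec.map _
    rw [← Spec.map_comp]
    rfl
  have hr : Set.range (c ≫ π) ⊆ Set.range V.ι := by
    rw [hcπ, Scheme.Opens.range_ι]
    exact range_le_of_basicOpen f V hf
  let g : Spec (CommRingCat.of C) ⟶ (V : Scheme.{u}) := IsOpenImmersion.lift V.ι (c ≫ π) hr
  have hg : g ≫ V.ι = c ≫ π := IsOpenImmersion.lift_fac _ _ _
  let l : Spec (CommRingCat.of C) ⟶ pullback (pr k R B).left V.ι := pullback.lift c g hg.symm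
  have h1 : l ≫ pullback.fst (pr k R B).left V.ι = c := pullback.lift_fst _ _ _
  have h2 : l ≫ pullback.snd (pr k R B).left V.ι = g := pullback.lift_snd _ _ _
  have hl : IsOpenImmersion l := by
    have : IsOpenImmersion (l ≫ pullback.fst (pr k R B).left V.ι) := by rw [h1]; exact hc
    exact IsOpenImmersion.of_comp l (pullback.fst (pr k R B).left V.ι)
  have h3 : Flat (pr k R C).left := by
    rw [← hcπ, ← hg, ← h2]
    have : Flat l := inferInstance
    have : Flat (l ≫ pullback.snd (pr k R B).left V.ι) := MorphismProperty.comp_mem @Flat _ _ this hfl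
    exact MorphismProperty.comp_mem @Flat _ _ this inferInstance
  have h4 : (CommRingCat.ofHom (IsScalarTower.toAlgHom k R C).toRingHom).hom.Flat := Flat.SpecMap_iff.1 h3
  have h5 : (algebraMap R C).Flat := h4
  exact RingHom.flat_algebraMap_iff.1 h5

variable {a : AlgGrp.Action (SpecOver k A) (SpecOver k B)}

theorem faithfullyFlat_chart [IsNoetherianRing R] (hinv : Inv R a) {D : ℕ → Submodule k A} (hD : Filt.IsFilt D)
    (V : (SpecOver k R).left.Opens) (hpt : PT R a V)
    (hdep : ∀ p : PrimeSpectrum R, p ∉ (show Opens (PrimeSpectrum R) from V) →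
      (3 : ℕ∞) ≤ LocCoh.depth (Localization.AtPrime p.asIdeal) (Localization.AtPrime p.asIdeal))
    (hO : OIso (pullback.fst (pr k R B).left V.ι))
    (hfl : Flat (pullback.snd (pr k R B).left V.ι))
    (hsurj : (V : Set _) ⊆ Set.range (pr k R B).left) :
    Module.FaithfullyFlat R B := by
  let V' : Opens (PrimeSpectrum R) := V
  let Z : Set (PrimeSpectrum R) := (V' : Set (PrimeSpectrum R))ᶜ
  have hZ : IsClosed Z := V'.isOpen.isClosed_compl
  let I : Ideal R := PrimeSpectrum.vanishingIdeal Z
  obtain ⟨n, h, hh⟩ : ∃ (n : ℕ) (h : Fin n → R), Ideal.span (Set.range h) = I :=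
    Submodule.fg_iff_exists_fin_generating_family.1 (IsNoetherian.noetherian I)
  have hVh : V' = ⨆ i, (PrimeSpectrum.basicOpen (h i) : Opens (PrimeSpectrum R)) := by
    ext p
    have h1 : p ∈ Z ↔ ∀ i, h i ∈ (p : PrimeSpectrum R).asIdeal := by
      have h2 : Z = PrimeSpectrum.zeroLocus (I : Set R) := by
        rw [PrimeSpectrum.zeroLocus_vanishingIdeal_eq_closure, hZ.closure_eq]
      rw [h2, ← hh, PrimeSpectrum.mem_zeroLocus, SetLike.coe_subset_coe, Ideal.span_le]
      exact Set.range_subset_iff
    change p ∈ V' ↔ p ∈ (⨆ i, (PrimeSpectrum.basicOpen (h i) : Opens (PrimeSpectrum R)))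
    rw [Opens.mem_iSup]
    have h3 : p ∈ V' ↔ ¬ p ∈ Z := (not_not).symm
    rw [h3, h1]
    push Not
    rfl
  have hle : ∀ i, (PrimeSpectrum.basicOpen (h i) : Opens (PrimeSpectrum R)) ≤ V' := fun i => by
    rw [hVh]; exact le_iSup (fun i => (PrimeSpectrum.basicOpen (h i) : Opens (PrimeSpectrum R))) i
  have hflat : ∀ i, Module.Flat R (Localization.Away (algebraMap R B (h i))) := fun i =>
    flat_away (h i) V (hle i) hfl
  refine GlobAlg.faithfullyFlat (h := h) (ρ := rhoL a hinv) ⟨isCoact hinv, fun N => ?_, fun x y hxy => ?_, fun i => ?_⟩ hD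
  · rw [hh]
    refine RegTriple.exists_triple I (fun p hp hIp => hdep ⟨p, hp⟩ fun hcon => ?_) N
    have h2 : (⟨p, hp⟩ : PrimeSpectrum R) ∈ Z := by
      have h3 : Z = PrimeSpectrum.zeroLocus (I : Set R) := by
        rw [PrimeSpectrum.zeroLocus_vanishingIdeal_eq_closure, hZ.closure_eq]
      rw [h3]
      exact hIp
    exact h2 hcon
  · have hloc : ∀ i, IsLocalizedModule (.powers (h i))
        (IsScalarTower.toAlgHom R B (Localization.Away (algebraMap R B (h i)))).toLinearMap := fun i => by
      rw [isLocalizedModule_iff_isLocalization, Algebra.algebraMapSubmonoid_powers]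
      infer_instance
    exact (isSat_of_oIso h V hVh hO).regPair (fun i => Localization.Away (algebraMap R B (h i)))
      (fun i => (IsScalarTower.toAlgHom R B (Localization.Away (algebraMap R B (h i)))).toLinearMap) hxy
  · refine ⟨Localization.Away (algebraMap R B (h i)), inferInstance, inferInstance, inferInstance,
      ⟨fun x y z => ?_⟩, IsScalarTower.toAlgHom R B _, hflat i, fun J hJ => ?_, ?_⟩
    · exact smul_assoc x y z
    · refine exists_pow_mem_of_map_eq_top (B := B) (h i) (fun p hp => ?_) J hJ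
      obtain ⟨q, hq⟩ := hsurj (hle i hp)
      exact ⟨q, hq⟩
    · exact bijective_gam _ hinv hpt (range_le_of_basicOpen (h i) V (hle i))

end K944.ChartFF
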