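import Groth.Agent.NonAbH1.K944.RegTriple
import Groth.Agent.NonAbH1.K550.OIReg
import Groth.Agent.NonAbH1.K550.LocFree
import Mathlib.AlgebraicGeometry.Noetherian

/-!
# `O_X → j_* O_U` is an isomorphism across points of depth at least three
-/

set_option autoImplicit false
universe u

open CategoryTheory CategoryTheory.Limits AlgebraicGeometry TopologicalSpace Opposite

namespace K944.OIDepth

open Groth.Agent.Desc.AffineHull Groth.Agent.Divis.DepthTwo

/-- the depth of a local ring on a chart -/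
theorem depth_chart {X : Scheme.{u}} (R : CommRingCat.{u}) (i : Spec R ⟶ X) [IsOpenImmersion i]
    (p : PrimeSpectrum R) : LocCoh.depth (X.presheaf.stalk (i p)) (X.presheaf.stalk (i p)) =
      LocCoh.depth (Localization.AtPrime p.asIdeal) (Localization.AtPrime p.asIdeal) := by
  let q : Spec R := p
  have h1 : IsIso (i.stalkMap q) := inferInstance
  let e₁ : X.presheaf.stalk (i q) ≃+* (Spec R).presheaf.stalk q :=
    (asIso (i.stalkMap q)).commRingCatIsoToRingEquiv
  have : IsLocalization p.asIdeal.primeCompl ((Spec.structureSheaf R).presheaf.stalk p) :=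
    StructureSheaf.IsLocalization.to_stalk R p
  let e₂ : (Spec R).presheaf.stalk q ≃+* Localization.AtPrime p.asIdeal :=
    (IsLocalization.algEquiv p.asIdeal.primeCompl ((Spec.structureSheaf R).presheaf.stalk p)
      (Localization.AtPrime p.asIdeal)).toRingEquiv
  exact (Groth.Agent.CalgA.DepthSmall.depth_ringEquiv (e₁.trans e₂))

theorem oIso_ι {X : Scheme.{u}} [IsLocallyNoetherian X] (U : X.Opens)
    (hZ : ∀ z : X, z ∉ U → (3 : ℕ∞) ≤ LocCoh.depth (X.presheaf.stalk z) (X.presheaf.stalk z)) :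
    OIso U.ι := by
  refine .of_isBasis' _ (fun V => IsAffineOpen V) X.isBasis_affineOpens fun V hV => ?_
  rw [ConcreteCategory.isIso_iff_bijective]
  refine (Groth.Agent.Pi1A.DepthTwo.bijective_app_iff U.ι V).mpr ?_
  have hN : IsNoetherianRing Γ(X, V) := IsLocallyNoetherian.component_noetherian ⟨V, hV⟩
  let Z : Set (PrimeSpectrum Γ(X, V)) := {p | hV.fromSpec p ∉ U}
  have hZc : IsClosed Z := (hV.fromSpec ⁻¹ᵁ U).isOpen.isClosed_compl
  let I : Ideal Γ(X, V) := PrimeSpectrum.vanishingIdeal Z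
  have hIZ : ∀ p : PrimeSpectrum Γ(X, V), I ≤ p.asIdeal → p ∈ Z := by
    intro p hp
    have h3 : Z = PrimeSpectrum.zeroLocus (I : Set Γ(X, V)) := by
      rw [PrimeSpectrum.zeroLocus_vanishingIdeal_eq_closure, hZc.closure_eq]
    rw [h3]
    exact hp
  obtain ⟨x, hx, y, hy, z, hz, hxyz⟩ := RegTriple.exists_triple I (fun p hp hIp => by
    have h1 := hZ _ (hIZ ⟨p, hp⟩ hIp)
    rw [depth_chart Γ(X, V) hV.fromSpec ⟨p, hp⟩] at h1
    exact h1) 1
  rw [pow_one] at hx hy
  have hp := RegPair.of_isWeaklyRegular hxyz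
  have hI : ∀ f ∈ I, X.basicOpen f ≤ U := by
    intro f hf w hw
    by_contra hwU
    have hwV : w ∈ V := X.basicOpen_le f hw
    rw [K550.LocFree.mem_basicOpen_iff hV hwV] at hw
    apply hw
    refine (PrimeSpectrum.mem_vanishingIdeal _ _).1 hf (hV.primeIdealOf ⟨w, hwV⟩) ?_
    change hV.fromSpec (hV.primeIdealOf ⟨w, hwV⟩) ∉ U
    rw [hV.fromSpec_primeIdealOf]
    exact hwU
  refine Groth.Agent.Pi1A.DepthTwo.bijective_res_of_isRegPair hV x y ⟨hp.inj, fun b c hbc => hp.div b c hbc⟩ _ ?_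
  refine le_inf (sup_le (X.basicOpen_le _) (X.basicOpen_le _)) ?_
  rw [Scheme.Opens.opensRange_ι]
  exact sup_le (hI x hx) (hI y hy)

end K944.OIDepth
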