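import Groth.Agent.NonAbH1.K944.Chart
import Groth.Agent.NonAbH1.K552.Push
import Groth.Agent.NonAbH1.K554.ExtTors
import Groth.Agent.GIT.K686.BcAct

/-!
# Actions which are simply transitive over an open of the base

* `Tr a π V`: `a` is simply transitive on the fibres of `π` over `V`.
* `tr_id_of_bc`: from the restriction to `V`; `tr_push`: read over `Spec k`; `tr_bcAct`: base change;
  `tr_restrict`: change of the group along an isomorphism.
-/

set_option autoImplicit false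
universe u

open CategoryTheory CategoryTheory.Limits MonoidalCategory CartesianMonoidalCategory MonObj GrpObj AlgebraicGeometry
open Groth.Agent.Books.BorelOrb

namespace K944.PtBase

open K554.BcPt K554.Fpqc

variable {S : Scheme.{u}}

/-- simple transitivity on the fibres over an open -/
def Tr {G X Y : Over S} [GrpObj G] (a : AlgGrp.Action G X) (π : X ⟶ Y) (V : Y.left.Opens) : Prop :=
  ∀ {T : Over S} (x x' : T ⟶ X), x ≫ π = x' ≫ π → Set.range (x ≫ π).left ⊆ (V : Set _) →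
    ∃! g : T ⟶ G, sm a g x' = x

/-- simple transitivity over an open, for actions over the base -/
def Tr₀ {G X : Over S} [GrpObj G] (a : AlgGrp.Action G X) (U : S.Opens) : Prop :=
  ∀ {T : Over S} (x x' : T ⟶ X), Set.range T.hom ⊆ (U : Set S) → ∃! g : T ⟶ G, sm a g x' = x

theorem tr₀_of_bc {G X : Over S} [GrpObj G] (a : AlgGrp.Action G X) (U : S.Opens)
    (h : NonAbH1.IsPseudoTorsorSch (a.bc U.ι)) : Tr₀ a U := by
  rw [isPseudoTorsorSch_iff] at h
  intro T x x' hT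
  let t : T.left ⟶ (U : Scheme.{u}) := IsOpenImmersion.lift U.ι T.hom (by rwa [Scheme.Opens.range_ι])
  have ht : t ≫ U.ι = T.hom := IsOpenImmersion.lift_fac _ _ _
  let T₀ : Over (U : Scheme.{u}) := Over.mk t
  let e : (Over.map U.ι).obj T₀ ≅ T := Over.isoMk (Iso.refl _) (by
    change 𝟙 _ ≫ T.hom = t ≫ U.ι
    rw [ht, Category.id_comp])
  obtain ⟨g₀, hg₀, hu₀⟩ := h T₀ (mk U.ι (e.hom ≫ x)) (mk U.ι (e.hom ≫ x'))
  refine ⟨e.inv ≫ un U.ι g₀, ?_, ?_⟩
  · have h1 := congrArg (un U.ι) hg₀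
    rw [K554.ExtTors.un_sm, un_mk, un_mk] at h1
    have h2 : x' = e.inv ≫ e.hom ≫ x' := by rw [Iso.inv_hom_id_assoc]
    have h3 := congrArg (fun f => e.inv ≫ f) h1
    simp only [Iso.inv_hom_id_assoc] at h3
    rw [comp_sm, Iso.inv_hom_id_assoc] at h3
    exact h3
  · intro g hg
    have h4 : mk U.ι (e.hom ≫ g) = g₀ := by
      apply hu₀
      rw [← K554.ExtTors.mk_sm, ← comp_sm, hg]
    rw [← h4, un_mk, Iso.inv_hom_id_assoc]

open K552.Push in
theorem tr_push {S' : Scheme.{u}} (d : S' ⟶ S) {G : Over S} [GrpObj G] {Z : Over S'}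
    (b : AlgGrp.Action (Red.bc d G) Z) (U : S'.Opens) (h : Tr₀ b U) :
    Tr (push b) (proj d Z) (Y := Over.mk d) U := by
  intro T z z' hz hr
  obtain ⟨T₀, i, j, z₀, h1, h2, rfl⟩ := exists_src z
  obtain ⟨z', rfl⟩ : ∃ z'', i ≫ z'' = z' := ⟨j ≫ z', by rw [← Category.assoc, h1, Category.id_comp]⟩
  have h3 : z' ≫ proj d Z = proj d T₀ := by
    have := congrArg (fun f => j ≫ f) hz
    simp only [← Category.assoc, h2, Category.id_comp] at this
    rw [← this, map_proj]
  have hT₀ : Set.range T₀.hom ⊆ (U : Set S') := by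
    have h4 : proj d T₀ = j ≫ (i ≫ (Over.map d).map z₀) ≫ proj d Z := by
      rw [Category.assoc, map_proj, ← Category.assoc, h2, Category.id_comp]
    have h5 : T₀.hom = j.left ≫ ((i ≫ (Over.map d).map z₀) ≫ proj d Z).left := by
      have := congrArg (fun f => f.left) h4
      rw [Over.comp_left] at this
      exact this
    rw [h5]
    rintro _ ⟨y, rfl⟩
    rw [Scheme.Hom.comp_apply]
    exact hr ⟨_, rfl⟩
  obtain ⟨z', rfl⟩ := exists_lift_of_proj z' h3
  obtain ⟨g₀, hg₀, hu₀⟩ := h z₀ z' hT₀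
  refine ⟨i ≫ dn g₀, ?_, ?_⟩
  · change sm (push b) (i ≫ dn _) (i ≫ _) = _
    rw [← comp_sm, sm_push_map, up_dn, hg₀]
  · intro g hg
    obtain ⟨g, rfl⟩ : ∃ g', i ≫ g' = g := ⟨j ≫ g, by rw [← Category.assoc, h1, Category.id_comp]⟩
    rw [← comp_sm, sm_push_map] at hg
    have h4 : (Over.map d).map (sm b (up g) z') = (Over.map d).map z₀ := by
      have := congrArg (fun f => j ≫ f) hg
      simpa only [← Category.assoc, h2, Category.id_comp] using this
    have h5 : sm b (up g) z' = z₀ := by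
      ext
      have := congrArg (fun f => f.left) h4
      simpa using this
    rw [← hu₀ _ h5, dn_up]

theorem isInvariant_of_sm {G X Y : Over S} [GrpObj G] (a : AlgGrp.Action G X) (π : X ⟶ Y)
    (h : ∀ {T : Over S} (g : T ⟶ G) (x : T ⟶ X), sm a g x ≫ π = x ≫ π) : GIT.IsInvariant a π := by
  have h1 := h (fst G X) (snd G X)
  rw [sm, lift_fst_snd, Category.id_comp] at h1
  exact h1

theorem sm_of_isInvariant {G X Y : Over S} [GrpObj G] {a : AlgGrp.Action G X} {π : X ⟶ Y}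
    (h : GIT.IsInvariant a π) {T : Over S} (g : T ⟶ G) (x : T ⟶ X) : sm a g x ≫ π = x ≫ π := by
  rw [sm, Category.assoc, h, lift_snd_assoc]

theorem sm_bcAct {G X X' Y Y' : Over S} [GrpObj G] {pr : X' ⟶ X} {φ' : X' ⟶ Y'} {φ : X ⟶ Y} {i : Y' ⟶ Y}
    (hp : IsPullback pr φ' φ i) (a : AlgGrp.Action G X) (h : GIT.IsInvariant a φ) {T : Over S} (g : T ⟶ G)
    (x : T ⟶ X') : sm (K686.bcAct hp a h) g x ≫ pr = sm a g (x ≫ pr) := by
  rw [sm, Category.assoc, K686.bcAct_pr, lift_whiskerLeft_assoc, sm]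

theorem tr_bcAct {G X X' Y Y' : Over S} [GrpObj G] {pr : X' ⟶ X} {φ' : X' ⟶ Y'} {φ : X ⟶ Y} {i : Y' ⟶ Y}
    (hp : IsPullback pr φ' φ i) (a : AlgGrp.Action G X) (h : GIT.IsInvariant a φ) (V : Y.left.Opens)
    (hV : Tr a φ V) : Tr (K686.bcAct hp a h) φ' (i.left ⁻¹ᵁ V) := by
  intro T x x' hx hr
  have h1 : ∀ y : T ⟶ X', (y ≫ pr) ≫ φ = (y ≫ φ') ≫ i := fun y => by
    rw [Category.assoc, hp.w, Category.assoc]
  obtain ⟨g, hg, hu⟩ := hV (x ≫ pr) (x' ≫ pr) (by rw [h1, h1, hx]) (by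
    rw [h1, Over.comp_left]
    rintro _ ⟨y, rfl⟩
    rw [Scheme.Hom.comp_apply]
    exact hr ⟨y, rfl⟩)
  have hinv := K686.bcAct_inv hp a h
  refine ⟨g, ?_, fun g' hg' => hu g' ?_⟩
  · apply hp.hom_ext
    · rw [sm_bcAct]; exact hg
    · rw [sm_of_isInvariant hinv]; exact hx.symm
  · change sm a g' (x' ≫ pr) = _
    rw [← sm_bcAct hp a h, hg']

theorem tr_restrict {G G' X Y : Over S} [GrpObj G] [GrpObj G'] (e : G' ≅ G) [IsMonHom e.hom]
    (a : AlgGrp.Action G X) (π : X ⟶ Y) (V : Y.left.Opens) (h : Tr a π V) : Tr (a.restrict e.hom) π V := by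
  intro T x x' hx hr
  obtain ⟨g, hg, hu⟩ := h x x' hx hr
  refine ⟨g ≫ e.inv, ?_, fun g' hg' => ?_⟩
  · change sm (a.restrict e.hom) (g ≫ e.inv) x' = x
    rw [sm_restrict, Category.assoc, Iso.inv_hom_id, Category.comp_id, hg]
  · have h1 : g' ≫ e.hom = g := hu _ (by
      change sm a (g' ≫ e.hom) x' = x
      rw [← sm_restrict, hg'])
    rw [← h1, Category.assoc, Iso.hom_inv_id, Category.comp_id]

theorem isInvariant_restrict {G G' X Y : Over S} [GrpObj G] [GrpObj G'] (e : G' ⟶ G) [IsMonHom e]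
    (a : AlgGrp.Action G X) (π : X ⟶ Y) (h : GIT.IsInvariant a π) : GIT.IsInvariant (a.restrict e) π := by
  apply isInvariant_of_sm
  intro T g x
  rw [sm_restrict, sm_of_isInvariant h]

end K944.PtBase
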