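import Groth.Agent.NonAbH1.K944.ChartFF
import Groth.Agent.NonAbH1.K944.OIDepth
import Groth.Agent.NonAbH1.K944.PtBase

/-!
# Charts of a scheme with an action of a constant unipotent group

`S` over `k`, `Q` affine over `S` with an action of `S ×_k G`, simply transitive over `U`, with `O_Q = j_* O` and the
local rings of `S` outside `U` of depth at least three: the rings of the charts of `Q` are faithfully flat.
-/

set_option autoImplicit false
universe u

open CategoryTheory CategoryTheory.Limits MonoidalCategory CartesianMonoidalCategory MonObj GrpObj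
  AlgebraicGeometry TopologicalSpace

namespace K944.ChartGeom

open Groth.Agent.Books.AffBridge Groth.Agent.Books.BorelOrb Groth.Agent.Desc.AffineHull K944.Chart K944.ChartFF
  K944.PtBase K552.Push

section squares

variable {X S Y : Scheme.{u}} {i : X ⟶ S} {q : Y ⟶ S} {P : Scheme.{u}} {j : P ⟶ Y} {p : P ⟶ X}
  (hp : IsPullback j p q i) (U : S.Opens)

/-- the comparison of the restrictions -/
noncomputable def cmp : pullback p (i ⁻¹ᵁ U).ι ⟶ pullback q U.ι :=
  pullback.map p (i ⁻¹ᵁ U).ι q U.ι j (i ∣_ U) i (hp.w.symm) (morphismRestrict_ι i U).symm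

lemma cmp_fst : cmp hp U ≫ pullback.fst q U.ι = pullback.fst p (i ⁻¹ᵁ U).ι ≫ j := pullback.lift_fst _ _ _

lemma cmp_snd : cmp hp U ≫ pullback.snd q U.ι = pullback.snd p (i ⁻¹ᵁ U).ι ≫ (i ∣_ U) := pullback.lift_snd _ _ _

theorem isPullback_cmp : IsPullback (cmp hp U) (pullback.fst p (i ⁻¹ᵁ U).ι) (pullback.fst q U.ι) j := by
  have h1 : IsPullback (pullback.snd p (i ⁻¹ᵁ U).ι ≫ (i ∣_ U)) (pullback.fst p (i ⁻¹ᵁ U).ι) U.ι (p ≫ i) :=
    (IsPullback.of_hasPullback p (i ⁻¹ᵁ U).ι).flip.paste_horiz (isPullback_morphismRestrict i U)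
  have h2 : IsPullback (pullback.snd q U.ι) (pullback.fst q U.ι) U.ι q :=
    (IsPullback.of_hasPullback q U.ι).flip
  rw [← hp.w, ← cmp_snd hp U] at h1
  exact IsPullback.of_right h1 (cmp_fst hp U) h2

theorem isPullback_cmp' : IsPullback (cmp hp U) (pullback.snd p (i ⁻¹ᵁ U).ι) (pullback.snd q U.ι) (i ∣_ U) := by
  have h1 : IsPullback (pullback.fst p (i ⁻¹ᵁ U).ι ≫ j) (pullback.snd p (i ⁻¹ᵁ U).ι) q ((i ⁻¹ᵁ U).ι ≫ i) :=
    (IsPullback.of_hasPullback p (i ⁻¹ᵁ U).ι).paste_horiz hp
  have h2 : IsPullback (pullback.fst q U.ι) (pullback.snd q U.ι) q U.ι := IsPullback.of_hasPullback q U.ι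
  rw [← morphismRestrict_ι i U, ← cmp_fst hp U] at h1
  exact IsPullback.of_right h1 (cmp_snd hp U) h2

end squares

variable {k : Type u} [Field k] {A : Type u} [CommRing A] [HopfAlgebra k A]
  {S : Scheme.{u}} (s : S ⟶ Spec (CommRingCat.of k)) (G : Over (Spec (CommRingCat.of k))) [GrpObj G]
  (e : SpecOver k A ≅ G) [IsMonHom e.hom] {Q : Over S} (α : AlgGrp.Action (Red.bc s G) Q) (U : S.Opens)

include e in
theorem ff_of_pullback {D : ℕ → Submodule k A} (hD : Filt.IsFilt D) [QuasiCompact U.ι] (hTr : Tr₀ α U)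
    (hO : OIso (pullback.fst Q.hom U.ι)) (hfl : Flat (pullback.snd Q.hom U.ι))
    (hs : (U : Set S) ⊆ Set.range Q.hom)
    (hdep : ∀ z : S, z ∉ U → (3 : ℕ∞) ≤ LocCoh.depth (S.presheaf.stalk z) (S.presheaf.stalk z))
    {R B : Type u} [CommRing R] [IsNoetherianRing R] [Algebra k R] [CommRing B] [Algebra k B] [Algebra R B]
    [IsScalarTower k R B] (iR : SpecOver k R ⟶ Over.mk s) [IsOpenImmersion iR.left]
    (jB : SpecOver k B ⟶ (Over.map s).obj Q) (hp : IsPullback jB (pr k R B) (proj s Q) iR) :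
    Module.FaithfullyFlat R B := by
  have hinv : GIT.IsInvariant (push α) (proj s Q) := isInvariant_of_sm _ _ fun g x => sm_push_proj α g x
  let a₀ := K686.bcAct hp (push α) hinv
  let a : AlgGrp.Action (SpecOver k A) (SpecOver k B) := a₀.restrict e.hom
  have hinva : GIT.IsInvariant a (pr k R B) := isInvariant_restrict e.hom a₀ _ (K686.bcAct_inv hp _ hinv)
  have h1 : Chart.Inv R a := fun g x => sm_of_isInvariant hinva g x
  let V : (SpecOver k R).left.Opens := iR.left ⁻¹ᵁ U
  have hTr' : Tr a (pr k R B) V := tr_restrict e a₀ _ _ (tr_bcAct hp (push α) hinv (Y := Over.mk s) U (tr_push s α U hTr))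
  have h2 : PT R a V := fun x x' hx hr => hTr' x x' hx hr
  have hp' : IsPullback jB.left (pr k R B).left Q.hom iR.left := K686.isPullback_left hp
  have hj : IsOpenImmersion jB.left := MorphismProperty.of_isPullback hp'.flip ‹_›
  refine faithfullyFlat_chart h1 hD V h2 (fun p hpV => ?_) ?_ ?_ ?_
  · let i : Spec (CommRingCat.of R) ⟶ S := iR.left
    have hi : IsOpenImmersion i := ‹IsOpenImmersion iR.left›
    have h3 := hdep (i p) (fun hcon => hpV hcon)
    rw [OIDepth.depth_chart (CommRingCat.of R) i p] at h3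
    exact h3
  · have hopen : IsOpenImmersion (pullback.fst Q.hom U.ι) := inferInstance
    have : QuasiCompact (pullback.fst Q.hom U.ι) := MorphismProperty.pullback_fst _ _ inferInstance
    exact OIso.of_isPullback (isPullback_cmp hp' U)
  · exact MorphismProperty.of_isPullback (P := @Flat) (isPullback_cmp' hp' U) hfl
  · intro p hpV
    obtain ⟨y, hy⟩ := hs hpV
    obtain ⟨z, hz1, hz2⟩ := Scheme.Pullback.exists_preimage_pullback (f := Q.hom) (g := iR.left) y p hy
    refine ⟨hp'.isoPullback.inv z, ?_⟩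
    rw [← Scheme.Hom.comp_apply, hp'.isoPullback_inv_snd, hz2]

end K944.ChartGeom
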