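import Groth.Agent.NonAbH1.K550.ExtTors
import Groth.Agent.NonAbH1.K944.PtBase
import Groth.Agent.NonAbH1.K554.Fpqc2

/-!
# Extension of torsors whose affine hull is flat, and uniqueness
-/

set_option autoImplicit false
universe u
open scoped CategoryTheory.Obj
open AlgebraicGeometry CategoryTheory CategoryTheory.Limits MonoidalCategory
  CartesianMonoidalCategory

namespace K944.Ext

open Groth.Agent.Desc.AffineHull K550.OIFF2 K944.PtBase

theorem isPseudoTorsorSch_bc_of_isIso {S S' : Scheme.{u}} (f : S' ⟶ S) {G X : Over S} [GrpObj G]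
    (a : AlgGrp.Action G X) (h : IsIso ((Over.pullback f).map (lift a.act (snd G X)))) :
    NonAbH1.IsPseudoTorsorSch (a.bc f) := by
  have key : lift (a.bc f).act (snd _ _) ≫ Functor.LaxMonoidal.μ (Over.pullback f) X X =
      Functor.LaxMonoidal.μ (Over.pullback f) G X ≫ (Over.pullback f).map (lift a.act (snd G X)) := by
    rw [← Functor.Monoidal.lift_μ, comp_lift_assoc, Functor.Monoidal.μ_snd, AlgGrp.Action.bc_act]
  have h1 : IsIso (lift (a.bc f).act (snd _ _) ≫ Functor.LaxMonoidal.μ (Over.pullback f) X X) := by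
    rw [key]; infer_instance
  exact IsIso.of_isIso_comp_right _ (Functor.LaxMonoidal.μ (Over.pullback f) X X)

set_option backward.isDefEq.respectTransparency.types false in
theorem exists_extension {X : Scheme.{u}} (G : Over X) [GrpObj G]
    [IsAffineHom G.hom] [Flat G.hom] [LocallyOfFinitePresentation G.hom]
    (U : X.Opens) [QuasiCompact U.ι] (hO : OIso U.ι)
    (hflat : ∀ (Q : Over X) [IsAffineHom Q.hom] (α : AlgGrp.Action G Q), Tr₀ α U →
      OIso (pullback.fst Q.hom U.ι) → Flat (pullback.snd Q.hom U.ι) → (U : Set X) ⊆ Set.range Q.hom →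
      Flat Q.hom ∧ Surjective Q.hom)
    (P : Over (U : Scheme.{u})) (b : AlgGrp.Action ((Over.pullback U.ι).obj G) P)
    (hb : NonAbH1.IsTorsorFor Scheme.fppfPrecoverage b) :
    ∃ (Q : Over X) (a : AlgGrp.Action G Q) (φ : (Over.pullback U.ι).obj Q ≅ P),
      NonAbH1.IsTorsorFor Scheme.fppfPrecoverage a ∧
      Functor.LaxMonoidal.μ (Over.pullback U.ι) G Q ≫ (Over.pullback U.ι).map a.act ≫ φ.hom =
        ((Over.pullback U.ι).obj G ◁ φ.hom) ≫ b.act := by
  have hGU1 : IsAffineHom ((Over.pullback U.ι).obj G).hom :=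
    MorphismProperty.pullback_snd (P := @IsAffineHom) _ _ inferInstance
  have hGU2 : Flat ((Over.pullback U.ι).obj G).hom :=
    MorphismProperty.pullback_snd (P := @Flat) _ _ inferInstance
  have hGU3 : LocallyOfFinitePresentation ((Over.pullback U.ι).obj G).hom :=
    MorphismProperty.pullback_snd (P := @LocallyOfFinitePresentation) _ _ inferInstance
  have hP1 : IsAffineHom P.hom := K551.Tors.isAffineHom_of_torsor hb
  have hP2 : Flat P.hom := K551.Tors.flat_of_torsor hb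
  have hP4 : Surjective P.hom := K551.Tors.surjective_of_torsor hb
  have hb1 : IsIso (lift b.act (snd ((Over.pullback U.ι).obj G) P)) := hb.1
  -- the hull
  let Q := hullX U P
  have hiso := isIso_toX U P
  let φ : (Over.pullback U.ι).obj Q ≅ P := (Over.isoMk (asIso (toX U P)) (toX_snd U P)).symm
  have hφ : φ.hom.left ≫ P.hom = pullback.snd Q.hom U.ι := Over.w φ.hom
  have hφi : IsIso φ.hom.left := inferInstanceAs (IsIso ((Over.forget _).map φ.hom))
  have hQ2 : Flat (pullback.snd Q.hom U.ι) := by rw [← hφ]; infer_instance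
  have hOQ : OIso (pullback.fst Q.hom U.ι) := by
    have e1 : pullback.fst Q.hom U.ι = inv (toX U P) ≫ toQ U P := by
      rw [IsIso.eq_inv_comp]; exact toX_fst U P
    rw [e1]
    exact OIso.comp _ _
  -- the action
  have hf : Flat (snd G Q).left :=
    MorphismProperty.pullback_snd (P := @Flat) G.hom Q.hom inferInstance
  have hOGQ : OIso (pullback.fst (G ⊗ Q).hom U.ι) := oIso_of_flat U.ι (snd G Q)
  obtain ⟨act, hact⟩ := map_surjective' U.ι (T := G ⊗ Q) (Q := Q)
    (Functor.OplaxMonoidal.δ (Over.pullback U.ι) G Q ≫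
      ((Over.pullback U.ι).obj G ◁ φ.hom) ≫ b.act ≫ φ.inv)
  have h : Functor.LaxMonoidal.μ (Over.pullback U.ι) G Q ≫ (Over.pullback U.ι).map act ≫ φ.hom =
      ((Over.pullback U.ι).obj G ◁ φ.hom) ≫ b.act := by
    rw [hact]
    simp
  have hsU := K550.ActUp.isIso_map_shear (Over.pullback U.ι) act φ b.act h
  have hf0 : Flat (𝟙_ (Over X)).hom := inferInstanceAs (Flat (𝟙 X))
  have hf2 : Flat (snd (𝟙_ (Over X)) Q).left :=
    MorphismProperty.pullback_snd (P := @Flat) (𝟙_ (Over X)).hom Q.hom hf0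
  have hf3 : Flat (G ⊗ G).hom := K550.ExtTors.flat_tensor G G
  have hf4 : Flat (snd (G ⊗ G) Q).left :=
    MorphismProperty.pullback_snd (P := @Flat) (G ⊗ G).hom Q.hom hf3
  have hO2 : OIso (pullback.fst (𝟙_ (Over X) ⊗ Q).hom U.ι) := oIso_of_flat U.ι (snd (𝟙_ (Over X)) Q)
  have hO3 : OIso (pullback.fst ((G ⊗ G) ⊗ Q).hom U.ι) := oIso_of_flat U.ι (snd (G ⊗ G) Q)
  let a : AlgGrp.Action G Q :=
    { act := act
      one_act := map_injective' U.ι
        (K550.ActUp.map_one_act (Over.pullback U.ι) act φ b.act h b.one_act)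
      mul_act := map_injective' U.ι
        (K550.ActUp.map_mul_act (Over.pullback U.ι) act φ b.act h b.mul_act) }
  have hrange : (U : Set X) ⊆ Set.range Q.hom := fun x hx => by
    obtain ⟨y, hy⟩ := P.hom.surjective ⟨x, hx⟩
    refine ⟨toQ U P y, ?_⟩
    rw [← Scheme.Hom.comp_apply, toQ_hom, Scheme.Hom.comp_apply, hy]
    rfl
  obtain ⟨hQf, hQs⟩ := hflat Q a (tr₀_of_bc a U (isPseudoTorsorSch_bc_of_isIso U.ι a hsU)) hOQ hQ2 hrange
  have hf1 : Flat (Q ⊗ Q).hom := K550.ExtTors.flat_tensor Q Q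
  have hGQ := K550.LocFree.isAffineHom_tensor G Q
  have hO1 := K550.OIFF.oIso_fst U.ι (Q ⊗ Q)
  have hps : NonAbH1.IsPseudoTorsorSch a := by
    obtain ⟨t, ht⟩ := map_surjective' U.ι (T := Q ⊗ Q) (Q := G ⊗ Q)
      (inv ((Over.pullback U.ι).map (lift act (snd G Q))))
    have hQQ := K550.LocFree.isAffineHom_tensor Q Q
    refine ⟨⟨t, map_injective' U.ι ?_, map_injective' U.ι ?_⟩⟩
    · rw [Functor.map_comp, ht, CategoryTheory.Functor.map_id]
      exact IsIso.hom_inv_id _
    · rw [Functor.map_comp, ht, CategoryTheory.Functor.map_id]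
      exact IsIso.inv_hom_id _
  have htors : NonAbH1.IsTorsorFor Scheme.fpqcPrecoverage a := ⟨hps, K554.Fpqc2.isLocallyTrivialFor_of_flat Q⟩
  have hlfp : LocallyOfFinitePresentation Q.hom :=
    K554.Fpqc.prop_of_isTorsorFor @LocallyOfFinitePresentation htors inferInstance
  exact ⟨Q, a, φ, ⟨hps, K554.Fpqc2.isLocallyTrivialFor_fppf_of_flat Q⟩, h⟩

/-- equivariant isomorphisms extend -/
theorem nonempty_equivIso {X : Scheme.{u}} (G : Over X) [GrpObj G]
    [IsAffineHom G.hom] [Flat G.hom] [LocallyOfFinitePresentation G.hom]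
    (U : X.Opens) [QuasiCompact U.ι] (hO : OIso U.ι)
    {Q₁ Q₂ : Over X} (a₁ : AlgGrp.Action G Q₁) (a₂ : AlgGrp.Action G Q₂)
    (h₁ : NonAbH1.IsTorsorFor Scheme.fppfPrecoverage a₁) (h₂ : NonAbH1.IsTorsorFor Scheme.fppfPrecoverage a₂)
    (e : NonAbH1.EquivIso (a₁.bc U.ι) (a₂.bc U.ι)) : Nonempty (NonAbH1.EquivIso a₁ a₂) := by
  have : Flat Q₁.hom := K551.Tors.flat_of_torsor h₁
  have : Flat Q₂.hom := K551.Tors.flat_of_torsor h₂
  have : IsAffineHom Q₁.hom := K551.Tors.isAffineHom_of_torsor h₁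
  have : IsAffineHom Q₂.hom := K551.Tors.isAffineHom_of_torsor h₂
  obtain ⟨f, hf⟩ := K550.OIFF.map_surjective U.ι (T := Q₁) (Q := Q₂) e.iso.hom
  obtain ⟨g, hg⟩ := K550.OIFF.map_surjective U.ι (T := Q₂) (Q := Q₁) e.iso.inv
  have hfg : f ≫ g = 𝟙 _ := K550.OIFF.map_injective U.ι (by
    rw [Functor.map_comp, hf, hg, CategoryTheory.Functor.map_id]; exact e.iso.hom_inv_id)
  have hgf : g ≫ f = 𝟙 _ := K550.OIFF.map_injective U.ι (by
    rw [Functor.map_comp, hf, hg, CategoryTheory.Functor.map_id]; exact e.iso.inv_hom_id)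
  have hGQ : Flat (G ⊗ Q₁).hom := K550.ExtTors.flat_tensor G Q₁
  refine ⟨⟨⟨f, g, hfg, hgf⟩, ?_⟩⟩
  apply K550.OIFF.map_injective U.ι
  rw [← cancel_epi (Functor.LaxMonoidal.μ (Over.pullback U.ι) G Q₁), Functor.map_comp,
    Functor.map_comp]
  have h3 := e.comm
  rw [AlgGrp.Action.bc_act, AlgGrp.Action.bc_act, Category.assoc] at h3
  change _ ≫ _ ≫ (Over.pullback U.ι).map f = _ ≫ (Over.pullback U.ι).map (G ◁ f) ≫ _
  rw [hf, h3, ← hf, Functor.LaxMonoidal.μ_natural_right_assoc]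

end K944.Ext
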