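import Groth.Agent.S3263

/-!
# The coconnected filtration of a unipotent Hopf algebra, one-sided form

`exists_filt`: subspaces `0 = D 0 ≤ D 1 ≤ …` of `A` with union `A`, `D 1 = k`, and
`Δ a - 1 ⊗ a ∈ A ⊗ D r` for `a ∈ D (r + 1)`.
-/

set_option autoImplicit false
universe u v

open TensorProduct

namespace K944.Filt

variable {k : Type u} [Field k] {A : Type v} [CommRing A] [HopfAlgebra k A]

/-- the one-sided coconnected filtration -/
structure IsFilt (D : ℕ → Submodule k A) : Prop where
  mono : Monotone D
  zero : D 0 = ⊥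
  one : D 1 = Submodule.span k {(1 : A)}
  top : ∀ a : A, ∃ r, a ∈ D r
  comul : ∀ r, ∀ a ∈ D (r + 1), CoalgebraStruct.comul (R := k) a - (1 : A) ⊗ₜ[k] a ∈
    LinearMap.range ((D r).subtype.lTensor A)

theorem exists_filt [Algebra.FiniteType k A] (hA : HopfRep.IsUnipotent k A) :
    ∃ D : ℕ → Submodule k A, IsFilt D := by
  obtain ⟨C, hC, hC0, hCtop, hCΔ⟩ := (Groth.Agent.S3263.result k A).1 hA
  obtain ⟨D, hD0, hDs⟩ : ∃ D : ℕ → Submodule k A, D 0 = ⊥ ∧ ∀ n, D (n + 1) = C n :=
    ⟨fun n => Nat.casesOn n ⊥ C, rfl, fun _ => rfl⟩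
  have hD : Monotone D := by
    refine monotone_nat_of_le_succ fun n => ?_
    cases n with
    | zero => rw [hD0]; exact bot_le
    | succ n => rw [hDs, hDs]; exact hC (Nat.le_succ n)
  refine ⟨D, hD, hD0, (hDs 0).trans hC0, fun a => ?_, fun r a ha => ?_⟩
  · have h1 : a ∈ ⨆ r, C r := by rw [hCtop]; trivial
    obtain ⟨r, hr⟩ := (Submodule.mem_iSup_of_directed C hC.directed_le).1 h1
    exact ⟨r + 1, by rwa [hDs]⟩
  · have ha' : a ∈ C r := by rwa [hDs] at ha
    let W : Submodule k (A ⊗[k] A) := LinearMap.range ((D r).subtype.lTensor A)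
    have hle : (⨆ i ∈ Finset.range (r + 1), LinearMap.range (TensorProduct.mapIncl (C i) (C (r - i)))) ≤
        W ⊔ LinearMap.range (TensorProduct.mk k A A 1) := by
      refine iSup₂_le fun i hi => ?_
      rw [Finset.mem_range] at hi
      rintro _ ⟨t, rfl⟩
      induction t with
      | zero => simp
      | add x y hx hy => rw [map_add]; exact add_mem hx hy
      | tmul x y =>
        rw [TensorProduct.mapIncl, TensorProduct.map_tmul]
        cases i with
        | zero =>
          have hx : (x : A) ∈ Submodule.span k {(1 : A)} := hC0 ▸ x.2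
          obtain ⟨c, hc⟩ := Submodule.mem_span_singleton.1 hx
          refine Submodule.mem_sup_right ⟨c • (y : A), ?_⟩
          rw [TensorProduct.mk_apply, TensorProduct.tmul_smul, TensorProduct.smul_tmul', hc]
          rfl
        | succ i =>
          refine Submodule.mem_sup_left ?_
          have hy : (y : A) ∈ D r := by
            cases r with
            | zero => omega
            | succ r => rw [hDs]; exact hC (by omega) y.2
          exact ⟨(x : A) ⊗ₜ ⟨y, hy⟩, rfl⟩
    obtain ⟨w, hw, _, ⟨b, rfl⟩, hwb⟩ := Submodule.mem_sup.1 (hle (hCΔ r (Submodule.mem_map_of_mem ha')))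
    obtain ⟨t, rfl⟩ := hw
    -- apply the counit
    have h1 := congrArg (fun z => TensorProduct.lid k A ((CoalgebraStruct.counit (R := k) (A := A)).rTensor A z)) hwb
    have key : ∀ t : A ⊗[k] (D r), TensorProduct.lid k A ((CoalgebraStruct.counit (R := k) (A := A)).rTensor A
        ((D r).subtype.lTensor A t)) ∈ D r := by
      intro t
      induction t with
      | zero => simp
      | add x y hx hy => simp only [map_add]; exact add_mem hx hy
      | tmul x y =>
        rw [LinearMap.lTensor_tmul, LinearMap.rTensor_tmul, TensorProduct.lid_tmul]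
        exact Submodule.smul_mem _ _ y.2
    have h2 : TensorProduct.lid k A ((CoalgebraStruct.counit (R := k) (A := A)).rTensor A
        (CoalgebraStruct.comul (R := k) a)) = a := by
      rw [Coalgebra.rTensor_counit_comul, TensorProduct.lid_tmul, one_smul]
    have h3 : TensorProduct.lid k A ((CoalgebraStruct.counit (R := k) (A := A)).rTensor A
        (TensorProduct.mk k A A 1 b)) = b := by
      rw [TensorProduct.mk_apply, LinearMap.rTensor_tmul, TensorProduct.lid_tmul]
      have : CoalgebraStruct.counit (R := k) (1 : A) = 1 := Bialgebra.counit_one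
      rw [this, one_smul]
    simp only [map_add, h3] at h1
    change _ = TensorProduct.lid k A ((CoalgebraStruct.counit (R := k) (A := A)).rTensor A
        (CoalgebraStruct.comul (R := k) a)) at h1
    rw [h2] at h1
    have h4 := key t
    generalize hc : TensorProduct.lid k A ((CoalgebraStruct.counit (R := k) (A := A)).rTensor A
        ((D r).subtype.lTensor A t)) = c at h1 h4
    have h5 : CoalgebraStruct.comul (R := k) a - (1 : A) ⊗ₜ[k] a =
        (D r).subtype.lTensor A t - (1 : A) ⊗ₜ[k] c := by
      rw [← hwb, ← h1, TensorProduct.mk_apply, TensorProduct.tmul_add]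
      abel
    rw [h5]
    exact sub_mem ⟨t, rfl⟩ ⟨(1 : A) ⊗ₜ ⟨c, h4⟩, rfl⟩

end K944.Filt
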