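import Groth.Agent.NonAbH1.K944.ChartGeom

/-!
# The hull is flat and surjective
-/

set_option autoImplicit false
universe u

open CategoryTheory CategoryTheory.Limits MonoidalCategory CartesianMonoidalCategory MonObj GrpObj
  AlgebraicGeometry TopologicalSpace

namespace K944.FlatHull

open Groth.Agent.Books.AffBridge Groth.Agent.Books.BorelOrb Groth.Agent.Desc.AffineHull K944.Chart K944.ChartGeom
  K944.PtBase K552.Push

variable {k : Type u} [Field k] {A : Type u} [CommRing A] [HopfAlgebra k A]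
  {S : Scheme.{u}} (s : S ⟶ Spec (CommRingCat.of k)) (G : Over (Spec (CommRingCat.of k))) [GrpObj G]
  (e : SpecOver k A ≅ G) [IsMonHom e.hom] {Q : Over S} [IsAffineHom Q.hom]
  (α : AlgGrp.Action (Red.bc s G) Q) (U : S.Opens)

include e in
theorem flat_surj_chart {D : ℕ → Submodule k A} (hD : Filt.IsFilt D) [QuasiCompact U.ι] (hTr : Tr₀ α U)
    (hO : OIso (pullback.fst Q.hom U.ι)) (hfl : Flat (pullback.snd Q.hom U.ι))
    (hs : (U : Set S) ⊆ Set.range Q.hom)
    (hdep : ∀ z : S, z ∉ U → (3 : ℕ∞) ≤ LocCoh.depth (S.presheaf.stalk z) (S.presheaf.stalk z))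
    (R : CommRingCat.{u}) [IsNoetherianRing R] (i : Spec R ⟶ S) [IsOpenImmersion i] :
    Flat (pullback.snd Q.hom i) ∧ Surjective (pullback.snd Q.hom i) := by
  let P := pullback Q.hom i
  have hP1 : IsAffineHom (pullback.snd Q.hom i) := MorphismProperty.pullback_snd _ _ inferInstance
  have hP : IsAffine P := isAffine_of_isAffineHom (pullback.snd Q.hom i)
  let B : CommRingCat.{u} := Γ(P, ⊤)
  let f : Spec B ⟶ Spec R := P.isoSpec.inv ≫ pullback.snd Q.hom i
  let _ : Algebra k R := (Spec.preimage (i ≫ s)).hom.toAlgebra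
  let _ : Algebra R B := (Spec.preimage f).hom.toAlgebra
  let _ : Algebra k B := ((algebraMap R B).comp (algebraMap k R)).toAlgebra
  have hst : IsScalarTower k R B := .of_algebraMap_eq fun _ => rfl
  have hf : (pr k R B).left = f := Spec.map_preimage f
  have hi : i ≫ s = (SpecOver k R).hom := (Spec.map_preimage (i ≫ s)).symm
  let iR : SpecOver k R ⟶ Over.mk s := Over.homMk i hi
  let jB : SpecOver k B ⟶ (Over.map s).obj Q := Over.homMk (P.isoSpec.inv ≫ pullback.fst Q.hom i) (by
    change (P.isoSpec.inv ≫ pullback.fst Q.hom i) ≫ Q.hom ≫ s = (SpecOver k B).hom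
    rw [← Over.w (pr k R B), hf, ← hi, Category.assoc, pullback.condition_assoc]
    exact (Category.assoc _ _ _).symm)
  have hp₀ : IsPullback (P.isoSpec.inv ≫ pullback.fst Q.hom i) f Q.hom i := by
    refine IsPullback.of_iso (IsPullback.of_hasPullback Q.hom i) P.isoSpec (Iso.refl _) (Iso.refl _) (Iso.refl _)
      ?_ ?_ ?_ ?_
    · rw [Iso.refl_hom, Category.comp_id]; exact (P.isoSpec.hom_inv_id_assoc _).symm
    · rw [Iso.refl_hom, Category.comp_id]; exact (P.isoSpec.hom_inv_id_assoc _).symm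
    · rw [Iso.refl_hom, Iso.refl_hom, Category.comp_id, Category.id_comp]
    · rw [Iso.refl_hom, Iso.refl_hom, Category.comp_id, Category.id_comp]
  have hp : IsPullback jB (pr k R B) (proj s Q) iR := by
    apply K686.isPullback_over
    change IsPullback (P.isoSpec.inv ≫ pullback.fst Q.hom i) (pr k R B).left Q.hom i
    rw [hf]
    exact hp₀
  have hiR : IsOpenImmersion iR.left := ‹IsOpenImmersion i›
  have h1 := ff_of_pullback s G e α U hD hTr hO hfl hs hdep iR jB hp
  have h2 : Flat f ∧ Surjective f := by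
    rw [← hf]
    refine (flat_and_surjective_SpecMap_iff (CommRingCat.ofHom (IsScalarTower.toAlgHom k R B).toRingHom)).2 ?_
    exact RingHom.faithfullyFlat_algebraMap_iff.2 h1
  have h3 : P.isoSpec.hom ≫ f = pullback.snd Q.hom i := P.isoSpec.hom_inv_id_assoc _
  obtain ⟨h4, h5⟩ := h2
  rw [← h3]
  exact ⟨inferInstance, inferInstance⟩

include e in
theorem flat_surj [IsLocallyNoetherian S] {D : ℕ → Submodule k A} (hD : Filt.IsFilt D) [QuasiCompact U.ι]
    (hTr : Tr₀ α U) (hO : OIso (pullback.fst Q.hom U.ι)) (hfl : Flat (pullback.snd Q.hom U.ι))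
    (hs : (U : Set S) ⊆ Set.range Q.hom)
    (hdep : ∀ z : S, z ∉ U → (3 : ℕ∞) ≤ LocCoh.depth (S.presheaf.stalk z) (S.presheaf.stalk z)) :
    Flat Q.hom ∧ Surjective Q.hom := by
  have h1 : ∀ j, Flat (pullback.snd Q.hom (S.affineCover.f j)) ∧
      Surjective (pullback.snd Q.hom (S.affineCover.f j)) := by
    intro j
    obtain ⟨R, hR⟩ : ∃ R : CommRingCat.{u}, S.affineCover.X j = Spec R := ⟨_, rfl⟩
    have hN : IsNoetherianRing (S.affineOpenCover.X j) := by
      have : IsLocallyNoetherian (Spec (S.affineOpenCover.X j)) :=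
        inferInstanceAs (IsLocallyNoetherian (S.affineCover.X j))
      exact isLocallyNoetherian_Spec.1 this
    exact flat_surj_chart s G e α U hD hTr hO hfl hs hdep (S.affineOpenCover.X j) (S.affineOpenCover.f j)
  exact ⟨IsZariskiLocalAtTarget.of_openCover (P := @Flat) S.affineCover fun j => (h1 j).1,
    IsZariskiLocalAtTarget.of_openCover (P := @Surjective) S.affineCover fun j => (h1 j).2⟩

end K944.FlatHull
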