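import Groth.Agent.NonAbH1.K944.Filt
import Mathlib.RingTheory.Flat.Basic
import Mathlib.RingTheory.Flat.EquationalCriterion
import Mathlib.RingTheory.TensorProduct.Basic
import Mathlib.LinearAlgebra.TensorProduct.Tower
import Mathlib.LinearAlgebra.TensorProduct.RightExactness

/-!
# Locally trivial comodule algebras: the local computation

`R → B` algebras over a field `k`, `A` a Hopf algebra over `k`, `ρ : B → B ⊗ A` an `R`-linear coaction.

* `th ρ π : B → B ⊗ V` for `π : A → V`; `fil ρ W` its kernel for `V = A / W`.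
* `gam ρ v : C ⊗_R B → C ⊗_k A` for `v : B → C`.
* `exists_mem_fil`: if the extension is trivial over a cover `C` of `D(f)`, elements of `D (r + 1) / D r` lift up to a
  power of `f`.
* `exists_pow_smul_invariant`: invariants come from `R` up to a power of `f`.
-/

set_option autoImplicit false
universe u v w

open TensorProduct

namespace K944.LocAlg

variable {k R A B : Type u} [Field k] [CommRing R] [Algebra k R] [CommRing A] [HopfAlgebra k A]
  [CommRing B] [Algebra k B] [Algebra R B] [IsScalarTower k R B]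

/-- an `R`-linear coaction -/
structure IsCoact (ρ : B →ₗ[R] B ⊗[k] A) : Prop where
  one : ρ 1 = 1
  coassoc : ∀ b, TensorProduct.assoc k B A A ((ρ.restrictScalars k).rTensor A (ρ b)) =
    (CoalgebraStruct.comul (R := k) (A := A)).lTensor B (ρ b)
  counit : ∀ b, (CoalgebraStruct.counit (R := k) (A := A)).lTensor B (ρ b) = b ⊗ₜ[k] (1 : k)

section th

variable {V : Type w} [AddCommGroup V] [Module k V]

/-- `b ↦ (1 ⊗ π) ρ(b)` -/
noncomputable def th (ρ : B →ₗ[R] B ⊗[k] A) (π : A →ₗ[k] V) : B →ₗ[R] B ⊗[k] V :=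
  AlgebraTensorModule.lTensor R B π ∘ₗ ρ

lemma th_apply (ρ : B →ₗ[R] B ⊗[k] A) (π : A →ₗ[k] V) (b : B) : th ρ π b = π.lTensor B (ρ b) := rfl

/-- the filtration step attached to a subspace of `A` -/
noncomputable def fil (ρ : B →ₗ[R] B ⊗[k] A) (W : Submodule k A) : Submodule R B := (th ρ W.mkQ).ker

lemma mem_fil {ρ : B →ₗ[R] B ⊗[k] A} {W : Submodule k A} {b : B} : b ∈ fil ρ W ↔ th ρ W.mkQ b = 0 := Iff.rfl

lemma exact_lTensor_mkQ (M : Type w) [AddCommGroup M] [Module k M] (W : Submodule k A) :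
    Function.Exact (W.subtype.lTensor M) (W.mkQ.lTensor M) :=
  lTensor_exact M (LinearMap.exact_subtype_mkQ W) (Submodule.mkQ_surjective W)

lemma mem_fil_iff {ρ : B →ₗ[R] B ⊗[k] A} {W : Submodule k A} {b : B} :
    b ∈ fil ρ W ↔ ρ b ∈ LinearMap.range (W.subtype.lTensor B) := by
  rw [mem_fil, th_apply]
  exact exact_lTensor_mkQ B W (ρ b)

lemma fil_mono (ρ : B →ₗ[R] B ⊗[k] A) {W W' : Submodule k A} (h : W ≤ W') : fil ρ W ≤ fil ρ W' := by
  intro b hb
  rw [mem_fil_iff] at hb ⊢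
  obtain ⟨t, ht⟩ := hb
  refine ⟨(Submodule.inclusion h).lTensor B t, ?_⟩
  rw [← ht, ← LinearMap.comp_apply, ← LinearMap.lTensor_comp]
  rfl

end th

section C

variable {C : Type u} [CommRing C] [Algebra k C] [Algebra R C] [IsScalarTower k R C] (v : B →ₐ[R] C)
  (ρ : B →ₗ[R] B ⊗[k] A)

/-- `b ↦ (v ⊗ 1) ρ(b)` -/
noncomputable def bet : B →ₗ[R] C ⊗[k] A :=
  AlgebraTensorModule.map (v.toLinearMap : B →ₗ[R] C) (LinearMap.id : A →ₗ[k] A) ∘ₗ ρ

/-- the trivialization map -/
noncomputable def gam : C ⊗[R] B →ₗ[C] C ⊗[k] A := (bet v ρ).liftBaseChange C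

lemma gam_tmul (c : C) (b : B) : gam v ρ (c ⊗ₜ b) = c • bet v ρ b := LinearMap.liftBaseChange_tmul ..

variable {V : Type w} [AddCommGroup V] [Module k V]

/-- `b ⊗ w ↦ (v ⊗ 1) ρ(b) ⊗ w` -/
noncomputable def del : B ⊗[k] V →ₗ[R] C ⊗[k] (A ⊗[k] V) :=
  ((AlgebraTensorModule.assoc k k C C A V).toLinearMap.restrictScalars R) ∘ₗ
    AlgebraTensorModule.map (bet v ρ) (LinearMap.id : V →ₗ[k] V)

/-- the trivialization with coefficients in `V` -/
noncomputable def psi : C ⊗[R] (B ⊗[k] V) →ₗ[C] C ⊗[k] (A ⊗[k] V) := (del (V := V) v ρ).liftBaseChange C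

lemma psi_tmul (c : C) (t : B ⊗[k] V) : psi v ρ (c ⊗ₜ t) = c • del v ρ t := LinearMap.liftBaseChange_tmul ..

lemma del_tmul (b : B) (x : V) : del v ρ (b ⊗ₜ[k] x) = AlgebraTensorModule.assoc k k C C A V (bet v ρ b ⊗ₜ[k] x) :=
  rfl

lemma key1 (π : A →ₗ[k] V) (t : B ⊗[k] A) :
    del v ρ (π.lTensor B t) = TensorProduct.map (v.toLinearMap.restrictScalars k) (π.lTensor A)
      (TensorProduct.assoc k B A A ((ρ.restrictScalars k).rTensor A t)) := by
  induction t with
  | zero => simp only [map_zero]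
  | add x y hx hy => simp only [map_add, hx, hy]
  | tmul b a =>
    rw [LinearMap.lTensor_tmul, LinearMap.rTensor_tmul, del_tmul]
    change AlgebraTensorModule.assoc k k C C A V
      ((TensorProduct.map (v.toLinearMap.restrictScalars k) LinearMap.id (ρ b)) ⊗ₜ[k] π a) =
      TensorProduct.map (v.toLinearMap.restrictScalars k) (π.lTensor A)
      (TensorProduct.assoc k B A A (ρ b ⊗ₜ[k] a))
    generalize ρ b = s
    induction s with
    | zero => simp only [map_zero, zero_tmul]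
    | add x y hx hy => simp only [map_add, add_tmul, hx, hy]
    | tmul x y => rfl

lemma key2 (π : A →ₗ[k] V) (t : B ⊗[k] A) :
    (π.lTensor A ∘ₗ CoalgebraStruct.comul (R := k) (A := A)).lTensor C
      (TensorProduct.map (v.toLinearMap.restrictScalars k) LinearMap.id t) =
      TensorProduct.map (v.toLinearMap.restrictScalars k) (π.lTensor A)
      ((CoalgebraStruct.comul (R := k) (A := A)).lTensor B t) := by
  induction t with
  | zero => simp only [map_zero]
  | add x y hx hy => simp only [map_add, hx, hy]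
  | tmul b a => rfl

variable {ρ}

/-- The coaction on the trivialization is the comultiplication. -/
theorem psi_th (hρ : IsCoact ρ) (π : A →ₗ[k] V) (z : C ⊗[R] B) :
    psi v ρ ((th ρ π).lTensor C z) =
      AlgebraTensorModule.lTensor C C (π.lTensor A ∘ₗ CoalgebraStruct.comul (R := k) (A := A)) (gam v ρ z) := by
  induction z with
  | zero => simp only [map_zero]
  | add x y hx hy => simp only [map_add, hx, hy]
  | tmul c b =>
    rw [LinearMap.lTensor_tmul, psi_tmul, gam_tmul, map_smul, th_apply, key1, hρ.coassoc, ← key2]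
    rfl

variable (ρ) in
/-- `psi` is built from `gam`. -/
lemma psi_eq (t : C ⊗[R] (B ⊗[k] V)) : psi v ρ t = AlgebraTensorModule.assoc k k C C A V
    (TensorProduct.map ((gam v ρ).restrictScalars k) (LinearMap.id : V →ₗ[k] V)
      ((AlgebraTensorModule.assoc k R R C B V).symm t)) := by
  induction t with
  | zero => simp only [map_zero]
  | add x y hx hy => simp only [map_add, hx, hy]
  | tmul c s =>
    induction s with
    | zero => simp only [map_zero, tmul_zero]
    | add x y hx hy => simp only [map_add, tmul_add, hx, hy]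
    | tmul b x =>
      rw [psi_tmul, del_tmul]
      change _ = AlgebraTensorModule.assoc k k C C A V (gam v ρ (c ⊗ₜ b) ⊗ₜ[k] x)
      rw [gam_tmul, ← map_smul, TensorProduct.smul_tmul']

lemma psi_injective (hg : Function.Injective (gam v ρ)) : Function.Injective (psi (V := V) v ρ) := by
  intro s t hst
  rw [psi_eq, psi_eq] at hst
  have h1 := (AlgebraTensorModule.assoc k k C C A V).injective hst
  have h2 : Function.Injective (TensorProduct.map ((gam v ρ).restrictScalars k) (LinearMap.id : V →ₗ[k] V)) :=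
    Module.Flat.rTensor_preserves_injective_linearMap (M := V) ((gam v ρ).restrictScalars k) hg
  exact (AlgebraTensorModule.assoc k R R C B V).symm.injective (h2 h1)

lemma bet_one (hρ : IsCoact ρ) : bet v ρ 1 = 1 := by
  have h : bet v ρ 1 = TensorProduct.map (v.toLinearMap.restrictScalars k) LinearMap.id (ρ 1) := rfl
  rw [h, hρ.one, Algebra.TensorProduct.one_def, TensorProduct.map_tmul]
  change v 1 ⊗ₜ 1 = _
  rw [map_one]
  rfl

/-- The local lifting statement: faithfully flat descent along `C`. -/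
theorem ff {f : R} [Module.Flat R C] (hJ : ∀ J : Ideal R, J.map (algebraMap R C) = ⊤ → ∃ N : ℕ, f ^ N ∈ J)
    {Q : Type w} [AddCommGroup Q] [Module R Q] (q : Q) (h : (1 : C) ⊗ₜ[R] q = 0) : ∃ N : ℕ, f ^ N • q = 0 := by
  let φ : R →ₗ[R] Q := LinearMap.toSpanSingleton R Q q
  have h1 : Function.Exact ((LinearMap.ker φ).subtype.lTensor C) (φ.lTensor C) :=
    Module.Flat.lTensor_exact C (LinearMap.exact_subtype_ker_map φ)
  have h2 : φ.lTensor C ((1 : C) ⊗ₜ[R] (1 : R)) = 0 := by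
    rw [LinearMap.lTensor_tmul, LinearMap.toSpanSingleton_apply, one_smul, h]
  obtain ⟨t, ht⟩ := (h1 _).1 h2
  obtain ⟨N, hN⟩ := hJ (LinearMap.ker φ) (by
    rw [Ideal.eq_top_iff_one]
    have h3 : ∀ t : C ⊗[R] (LinearMap.ker φ), TensorProduct.rid R C ((LinearMap.ker φ).subtype.lTensor C t) ∈
        Ideal.map (algebraMap R C) (LinearMap.ker φ) := by
      intro t
      induction t with
      | zero => simp
      | add x y hx hy => simp only [map_add]; exact add_mem hx hy
      | tmul c x =>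
        rw [LinearMap.lTensor_tmul, TensorProduct.rid_tmul, Algebra.smul_def]
        exact Ideal.mul_mem_right _ _ (Ideal.mem_map_of_mem _ x.2)
    have h4 := h3 t
    rw [ht, TensorProduct.rid_tmul, one_smul] at h4
    exact h4)
  exact ⟨N, hN⟩

/-- Elements of `D (r + 1) / D r` lift up to a power of `f`. -/
theorem exists_mem_fil {D : ℕ → Submodule k A} (hD : Filt.IsFilt D) (hρ : IsCoact ρ) {f : R} [Module.Flat R C]
    (hJ : ∀ J : Ideal R, J.map (algebraMap R C) = ⊤ → ∃ N : ℕ, f ^ N ∈ J)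
    (hg : Function.Bijective (gam v ρ)) (r : ℕ) (a : A) (ha : a ∈ D (r + 1)) :
    ∃ N : ℕ, ∃ b ∈ fil ρ (D (r + 1)), th ρ (D r).mkQ b = f ^ N • ((1 : B) ⊗ₜ[k] (D r).mkQ a) := by
  have hΔ : ∀ s : ℕ, r ≤ s → (D s).mkQ.lTensor A (CoalgebraStruct.comul (R := k) a) = 1 ⊗ₜ[k] (D s).mkQ a := by
    intro s hs
    have h1 : (D s).mkQ.lTensor A (CoalgebraStruct.comul (R := k) a - (1 : A) ⊗ₜ[k] a) = 0 := by
      obtain ⟨t, ht⟩ := hD.comul r a ha
      rw [← ht, ← LinearMap.comp_apply, ← LinearMap.lTensor_comp]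
      have h2 : (D s).mkQ ∘ₗ (D r).subtype = 0 := by
        ext x
        exact (Submodule.Quotient.mk_eq_zero _).2 (hD.mono hs x.2)
      rw [h2, LinearMap.lTensor_zero, LinearMap.zero_apply]
    rw [map_sub, LinearMap.lTensor_tmul, sub_eq_zero] at h1
    exact h1
  obtain ⟨z, hz⟩ := hg.2 ((1 : C) ⊗ₜ[k] a)
  have hE : ∀ s : ℕ, r ≤ s → psi v ρ ((th ρ (D s).mkQ).lTensor C z) = 1 ⊗ₜ[k] (1 ⊗ₜ[k] (D s).mkQ a) := by
    intro s hs
    rw [psi_th v hρ, hz]
    change (1 : C) ⊗ₜ[k] ((D s).mkQ.lTensor A (CoalgebraStruct.comul (R := k) a)) = _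
    rw [hΔ s hs]
  have h0 : (th ρ (D (r + 1)).mkQ).lTensor C z = 0 := by
    apply psi_injective v hg.1
    rw [hE (r + 1) (Nat.le_succ r), map_zero]
    have h1 : (D (r + 1)).mkQ a = 0 := (Submodule.Quotient.mk_eq_zero _).2 ha
    rw [h1, tmul_zero, tmul_zero]
  have hex : Function.Exact ((fil ρ (D (r + 1))).subtype.lTensor C) ((th ρ (D (r + 1)).mkQ).lTensor C) :=
    Module.Flat.lTensor_exact C (LinearMap.exact_subtype_ker_map _)
  obtain ⟨y, hy⟩ := (hex z).1 h0
  let φ : fil ρ (D (r + 1)) →ₗ[R] B ⊗[k] (A ⧸ D r) := th ρ (D r).mkQ ∘ₗ (fil ρ (D (r + 1))).subtype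
  have h2 : (φ.lTensor C) y = (1 : C) ⊗ₜ[R] ((1 : B) ⊗ₜ[k] (D r).mkQ a) := by
    apply psi_injective v hg.1
    have h3 : φ.lTensor C y = (th ρ (D r).mkQ).lTensor C z := by
      rw [← hy, ← LinearMap.comp_apply, ← LinearMap.lTensor_comp]
    rw [h3, hE r le_rfl, psi_tmul, del_tmul, bet_one v hρ, one_smul]
    rfl
  have h4 : (1 : C) ⊗ₜ[R] (LinearMap.range φ).mkQ ((1 : B) ⊗ₜ[k] (D r).mkQ a) = 0 := by
    have h5 : (1 : C) ⊗ₜ[R] (LinearMap.range φ).mkQ ((1 : B) ⊗ₜ[k] (D r).mkQ a) =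
        ((LinearMap.range φ).mkQ ∘ₗ φ).lTensor C y := by
      rw [LinearMap.lTensor_comp, LinearMap.comp_apply, h2]
      rfl
    rw [h5, LinearMap.range_mkQ_comp, LinearMap.lTensor_zero, LinearMap.zero_apply]
  obtain ⟨N, hN⟩ := ff hJ _ h4
  rw [← map_smul] at hN
  obtain ⟨⟨b, hb⟩, hb'⟩ := (Submodule.Quotient.mk_eq_zero _).1 hN
  exact ⟨N, b, hb, hb'⟩

/-- Invariants come from `R` up to a power of `f`. -/
theorem exists_pow_smul_invariant {f : R} [Module.Flat R C]
    (hJ : ∀ J : Ideal R, J.map (algebraMap R C) = ⊤ → ∃ N : ℕ, f ^ N ∈ J)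
    (hg : Function.Bijective (gam v ρ)) (hρ : IsCoact ρ) (b : B) (hb : ρ b = b ⊗ₜ[k] (1 : A)) :
    ∃ N : ℕ, ∃ r : R, f ^ N • b = algebraMap R B r := by
  have h1 : (1 : C) ⊗ₜ[R] b = v b ⊗ₜ[R] (1 : B) := by
    apply hg.1
    have h : bet v ρ b = TensorProduct.map (v.toLinearMap.restrictScalars k) LinearMap.id (ρ b) := rfl
    rw [gam_tmul, gam_tmul, bet_one v hρ, one_smul, h, hb, TensorProduct.map_tmul,
      Algebra.TensorProduct.one_def, TensorProduct.smul_tmul', smul_eq_mul, mul_one]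
    rfl
  let L : Submodule R B := LinearMap.range (Algebra.linearMap R B)
  have h2 : (1 : C) ⊗ₜ[R] L.mkQ b = 0 := by
    have h3 : (1 : C) ⊗ₜ[R] L.mkQ b = L.mkQ.lTensor C ((1 : C) ⊗ₜ[R] b) := rfl
    have h4 : L.mkQ (1 : B) = 0 := (Submodule.Quotient.mk_eq_zero _).2 ⟨1, by simp⟩
    rw [h3, h1, LinearMap.lTensor_tmul, h4, tmul_zero]
  obtain ⟨N, hN⟩ := ff hJ _ h2
  rw [← map_smul] at hN
  obtain ⟨r, hr⟩ := (Submodule.Quotient.mk_eq_zero _).1 hN
  exact ⟨N, r, hr.symm⟩

include v in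
/-- The kernel of `R → B` is killed by powers of `f`. -/
theorem algebraMap_eq_zero {f : R} [Module.Flat R C]
    (hJ : ∀ J : Ideal R, J.map (algebraMap R C) = ⊤ → ∃ N : ℕ, f ^ N ∈ J) (r : R) (hr : algebraMap R B r = 0) :
    ∃ N : ℕ, f ^ N • r = 0 := by
  refine ff (C := C) hJ r ?_
  have h1 : algebraMap R C r = 0 := by rw [← v.commutes, hr, map_zero]
  apply (TensorProduct.rid R C).injective
  rw [TensorProduct.rid_tmul, Algebra.smul_def, h1, zero_mul, map_zero]

end C

end K944.LocAlg
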